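/-
Cycles of a permutation and the effect of composing with a permutation of small support.

* `per`, `orb` : the period and the cycle of a point
* `Good` : the point has an odd period
* `seg_lt`, `seg_end` : following a cycle of `c * σ` along a cycle of `σ`
-/
import Mathlib
import Cfsg.Agent.EqLemmas

set_option autoImplicit false
set_option linter.unusedSectionVars false

namespace Cfsg.Agent.InvolutionGraph

variable {α : Type*} [DecidableEq α] [Fintype α]

/-- The period of a point. -/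
noncomputable def per (σ : Equiv.Perm α) (p : α) : ℕ := Function.minimalPeriod σ p

/-- The cycle of a point. -/
def orb (σ : Equiv.Perm α) (p : α) : Finset α :=
  Finset.univ.filter fun q => σ.SameCycle p q

theorem pow_apply_eq_self_iff {σ : Equiv.Perm α} {p : α} {n : ℕ} : (σ ^ n) p = p ↔ per σ p ∣ n := by
  rw [Equiv.Perm.coe_pow]
  exact Function.isPeriodicPt_iff_minimalPeriod_dvd

theorem pow_per (σ : Equiv.Perm α) (p : α) : (σ ^ per σ p) p = p := pow_apply_eq_self_iff.2 dvd_rfl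

theorem per_pos (σ : Equiv.Perm α) (p : α) : 0 < per σ p :=
  Nat.pos_of_dvd_of_pos (pow_apply_eq_self_iff.1 (by rw [pow_orderOf_eq_one]; rfl)) (orderOf_pos σ)

theorem pow_eq_pow_iff {σ : Equiv.Perm α} {p : α} {i j : ℕ} (hi : i < per σ p) (hj : j < per σ p) :
    (σ ^ i) p = (σ ^ j) p ↔ i = j := by
  rw [Equiv.Perm.coe_pow, Equiv.Perm.coe_pow]
  exact Function.iterate_eq_iterate_iff_of_lt_minimalPeriod hi hj

theorem per_apply (σ : Equiv.Perm α) (p : α) : per σ (σ p) = per σ p :=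
  Function.minimalPeriod_apply ⟨per σ p, per_pos σ p, Function.isPeriodicPt_minimalPeriod _ _⟩

theorem per_pow_apply (σ : Equiv.Perm α) (p : α) (i : ℕ) : per σ ((σ ^ i) p) = per σ p := by
  induction i with
  | zero => rfl
  | succ i ih => rw [pow_succ', Equiv.Perm.mul_apply, per_apply, ih]

theorem mem_orb {σ : Equiv.Perm α} {p q : α} : q ∈ orb σ p ↔ ∃ i < per σ p, (σ ^ i) p = q := by
  rw [orb, Finset.mem_filter, and_iff_right (Finset.mem_univ _)]
  constructor
  · intro h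
    obtain ⟨i, -, hi⟩ := h.exists_pow_eq'
    refine ⟨i % per σ p, Nat.mod_lt _ (per_pos σ p), ?_⟩
    conv_rhs => rw [← hi, ← Nat.mod_add_div i (per σ p), pow_add, Equiv.Perm.mul_apply,
      pow_apply_eq_self_iff.2 (dvd_mul_right _ _)]
  · rintro ⟨i, -, rfl⟩
    exact ⟨i, by rw [zpow_natCast]⟩

theorem self_mem_orb (σ : Equiv.Perm α) (p : α) : p ∈ orb σ p :=
  mem_orb.2 ⟨0, per_pos σ p, rfl⟩

theorem pow_mem_orb (σ : Equiv.Perm α) (p : α) (i : ℕ) : (σ ^ i) p ∈ orb σ p := by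
  rw [orb, Finset.mem_filter]
  exact ⟨Finset.mem_univ _, i, by rw [zpow_natCast]⟩

theorem orb_eq_of_mem {σ : Equiv.Perm α} {p q : α} (h : q ∈ orb σ p) : orb σ q = orb σ p := by
  rw [orb, Finset.mem_filter] at h
  ext r
  simp only [orb, Finset.mem_filter, Finset.mem_univ, true_and]
  exact ⟨fun h' => h.2.trans h', fun h' => h.2.symm.trans h'⟩

theorem mem_orb_comm {σ : Equiv.Perm α} {p q : α} : q ∈ orb σ p ↔ p ∈ orb σ q :=
  ⟨fun h => (orb_eq_of_mem h).symm ▸ self_mem_orb σ p, fun h => (orb_eq_of_mem h).symm ▸ self_mem_orb σ q⟩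

theorem orb_apply (σ : Equiv.Perm α) (p : α) : orb σ (σ p) = orb σ p :=
  orb_eq_of_mem (by simpa using pow_mem_orb σ p 1)

theorem per_of_mem {σ : Equiv.Perm α} {p q : α} (h : q ∈ orb σ p) : per σ q = per σ p := by
  obtain ⟨i, -, rfl⟩ := mem_orb.1 h
  exact per_pow_apply σ p i

/-- The point has an odd period. -/
def Good (f : Equiv.Perm α) (p : α) : Prop := ∃ m : ℕ, Odd m ∧ (f ^ m) p = p

theorem Good.of_fixed {f : Equiv.Perm α} {p : α} (h : f p = p) : Good f p :=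
  ⟨1, odd_one, by rwa [pow_one]⟩

theorem Good.of_per {σ : Equiv.Perm α} {p : α} (h : Odd (per σ p)) : Good σ p := ⟨_, h, pow_per σ p⟩

theorem Good.inv {f : Equiv.Perm α} {p : α} (h : Good f p) : Good f⁻¹ p := by
  obtain ⟨m, hm, hp⟩ := h
  refine ⟨m, hm, ?_⟩
  conv_lhs => rw [← hp]
  rw [inv_pow, ← Equiv.Perm.mul_apply, inv_mul_cancel, Equiv.Perm.one_apply]

/-- The points on a cycle share the period. -/
theorem Good.of_iterate {f : Equiv.Perm α} {v : α} {N : ℕ} (hN : Odd N) (h : (f ^ N) v = v) (i : ℕ) :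
    Good f ((f ^ i) v) :=
  ⟨N, hN, by rw [← Equiv.Perm.mul_apply, ← pow_add, add_comm, pow_add, Equiv.Perm.mul_apply, h]⟩

theorem good_three {f : Equiv.Perm α} {a b c : α} (ha : f a = b) (hb : f b = c) (hc : f c = a) :
    Good f a ∧ Good f b ∧ Good f c := by
  refine ⟨⟨3, by decide, ?_⟩, ⟨3, by decide, ?_⟩, ⟨3, by decide, ?_⟩⟩ <;>
    simp [pow_succ', ha, hb, hc]

theorem good_five {f : Equiv.Perm α} {a b c d e : α} (ha : f a = b) (hb : f b = c) (hc : f c = d)
    (hd : f d = e) (he : f e = a) : Good f a ∧ Good f b ∧ Good f c ∧ Good f d ∧ Good f e := by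
  refine ⟨⟨5, by decide, ?_⟩, ⟨5, by decide, ?_⟩, ⟨5, by decide, ?_⟩, ⟨5, by decide, ?_⟩, ⟨5, by decide, ?_⟩⟩ <;>
    simp [pow_succ', ha, hb, hc, hd, he]

theorem seg_lt {σ c : Equiv.Perm α} {p : α} {k : ℕ}
    (h : ∀ i, 1 ≤ i → i < k → c ((σ ^ i) p) = (σ ^ i) p) :
    ∀ i < k, ((c * σ) ^ i) p = (σ ^ i) p := by
  intro i
  induction i with
  | zero => intros; rfl
  | succ i ih =>
    intro hi
    rw [pow_succ', Equiv.Perm.mul_apply, ih (by omega), Equiv.Perm.mul_apply, ← Equiv.Perm.mul_apply σ,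
      ← pow_succ', h (i + 1) (by omega) hi]

theorem seg_end {σ c : Equiv.Perm α} {p : α} {k : ℕ} (hk : 1 ≤ k)
    (h : ∀ i, 1 ≤ i → i < k → c ((σ ^ i) p) = (σ ^ i) p) :
    ((c * σ) ^ k) p = c ((σ ^ k) p) := by
  obtain ⟨j, rfl⟩ : ∃ j, k = j + 1 := ⟨k - 1, by omega⟩
  rw [pow_succ', Equiv.Perm.mul_apply, seg_lt h j (by omega), Equiv.Perm.mul_apply,
    ← Equiv.Perm.mul_apply σ, ← pow_succ']

/-- The cyclic permutation `a → b → c → a`. -/
def cyc (a b c : α) : Equiv.Perm α := Equiv.swap a b * Equiv.swap b c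

theorem cyc_apply {a b c : α} (hab : a ≠ b) (hac : a ≠ c) (hbc : b ≠ c) :
    cyc a b c a = b ∧ cyc a b c b = c ∧ cyc a b c c = a := by
  refine ⟨?_, ?_, ?_⟩ <;> simp only [cyc, Equiv.Perm.mul_apply]
  · rw [Equiv.swap_apply_of_ne_of_ne hab hac, Equiv.swap_apply_left]
  · rw [Equiv.swap_apply_left, Equiv.swap_apply_of_ne_of_ne hac.symm hbc.symm]
  · rw [Equiv.swap_apply_right, Equiv.swap_apply_right]

theorem cyc_of_ne {a b c q : α} (ha : q ≠ a) (hb : q ≠ b) (hc : q ≠ c) : cyc a b c q = q := by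
  rw [cyc, Equiv.Perm.mul_apply, Equiv.swap_apply_of_ne_of_ne hb hc, Equiv.swap_apply_of_ne_of_ne ha hb]

theorem conj_cyc {x : Equiv.Perm α} (hx : x * x = 1) (a b c : α) :
    x * (cyc a b c)⁻¹ * x = cyc (x c) (x b) (x a) := by
  have hx' : x⁻¹ = x := inv_eq_of_mul_eq_one_right hx
  simp only [cyc, mul_inv_rev, Equiv.swap_inv]
  rw [Equiv.swap_comm (x c) (x b), Equiv.swap_comm (x b) (x a), Equiv.swap_apply_apply, Equiv.swap_apply_apply,
    hx']
  rw [show x * Equiv.swap b c * x * (x * Equiv.swap a b * x) = x * Equiv.swap b c * (x * x) * Equiv.swap a b * x by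
    group, hx, mul_one]
  simp only [mul_assoc]

end Cfsg.Agent.InvolutionGraph
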