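/-
Two involutions `x`, `y` on an invariant set: a third conjugate of `x` whose products with both have odd order.

* `Q` : the goal on an invariant set
* `move_split`, `move_merge`, `self_long`, `even_even`, `even_odd`, `combined`, `three` : the pieces
-/
import Cfsg.Agent.Lib.InvolutionGraph.Orbits
import Cfsg.Agent.EqLemmas

set_option autoImplicit false
set_option linter.unusedSectionVars false

namespace Cfsg.Agent.InvolutionGraph

variable {α : Type*} [DecidableEq α] [Fintype α]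

/-- Two involutions. -/
structure Pair (α : Type*) [DecidableEq α] [Fintype α] where
  x : Equiv.Perm α
  y : Equiv.Perm α
  xx : x * x = 1
  yy : y * y = 1

namespace Pair

variable (d : Pair α)

/-- The product. -/
def s : Equiv.Perm α := d.x * d.y

theorem x_x (p : α) : d.x (d.x p) = p := by rw [← Equiv.Perm.mul_apply, d.xx, Equiv.Perm.one_apply]

theorem y_eq (p : α) : d.y p = d.x (d.s p) := by rw [s, Equiv.Perm.mul_apply, d.x_x]

theorem xsx : d.x * d.s * d.x = d.s⁻¹ := by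
  have hx : d.x⁻¹ = d.x := inv_eq_of_mul_eq_one_right d.xx
  have hy : d.y⁻¹ = d.y := inv_eq_of_mul_eq_one_right d.yy
  rw [s, mul_inv_rev, hx, hy, ← mul_assoc, d.xx, one_mul]

theorem s_x (p : α) : d.s (d.x (d.s p)) = d.x p := by
  rw [← d.y_eq, s, Equiv.Perm.mul_apply, ← Equiv.Perm.mul_apply d.y, d.yy, Equiv.Perm.one_apply]

theorem pow_x (p : α) : ∀ i : ℕ, (d.s ^ i) (d.x ((d.s ^ i) p)) = d.x p := by
  intro i
  induction i generalizing p with
  | zero => rfl
  | succ i ih =>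
    have e1 : ∀ q, (d.s ^ (i + 1)) q = d.s ((d.s ^ i) q) := fun q => by rw [pow_succ', Equiv.Perm.mul_apply]
    have e2 : (d.s ^ (i + 1)) p = (d.s ^ i) (d.s p) := by rw [pow_succ, Equiv.Perm.mul_apply]
    rw [e1, e2, ih, d.s_x]

theorem per_x (p : α) : per d.s (d.x p) = per d.s p := by
  have key : ∀ q n, per d.s q ∣ n → per d.s (d.x q) ∣ n := by
    intro q n h
    rw [← pow_apply_eq_self_iff] at h ⊢
    have := d.pow_x q n
    rwa [h] at this
  refine Nat.dvd_antisymm (key p _ dvd_rfl) ?_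
  have := key (d.x p) _ dvd_rfl
  rwa [d.x_x] at this

theorem x_mem_orb {p q : α} (h : q ∈ orb d.s p) : d.x q ∈ orb d.s (d.x p) := by
  obtain ⟨i, -, rfl⟩ := mem_orb.1 h
  have := pow_mem_orb d.s (d.x ((d.s ^ i) p)) i
  rw [d.pow_x] at this
  exact mem_orb_comm.1 this

theorem orb_x_of_mem {p q : α} (h : q ∈ orb d.s p) : orb d.s (d.x q) = orb d.s (d.x p) :=
  orb_eq_of_mem (d.x_mem_orb h)

/-- A component. -/
def comp (p : α) : Finset α := orb d.s p ∪ orb d.s (d.x p)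

/-- Closed under both involutions. -/
def Inv (S : Finset α) : Prop := ∀ p ∈ S, d.x p ∈ S ∧ d.y p ∈ S

theorem inv_comp (p : α) : d.Inv (d.comp p) := by
  intro q hq
  have key : d.x q ∈ d.comp p := by
    rcases Finset.mem_union.1 hq with h | h
    · exact Finset.mem_union_right _ (d.x_mem_orb h)
    · refine Finset.mem_union_left _ ?_
      have := d.x_mem_orb h
      rwa [d.x_x] at this
  have key' : d.s q ∈ d.comp p := by
    rcases Finset.mem_union.1 hq with h | h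
    · exact Finset.mem_union_left _ (orb_eq_of_mem h ▸ (by simpa using pow_mem_orb d.s q 1))
    · exact Finset.mem_union_right _ (orb_eq_of_mem h ▸ (by simpa using pow_mem_orb d.s q 1))
  refine ⟨key, ?_⟩
  rw [d.y_eq]
  rcases Finset.mem_union.1 key' with h | h
  · exact Finset.mem_union_right _ (d.x_mem_orb h)
  · refine Finset.mem_union_left _ ?_
    have := d.x_mem_orb h
    rwa [d.x_x] at this

theorem Inv.pow {S : Finset α} (h : d.Inv S) {p : α} (hp : p ∈ S) (i : ℕ) : (d.s ^ i) p ∈ S := by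
  induction i with
  | zero => exact hp
  | succ i ih => rw [pow_succ', Equiv.Perm.mul_apply, s, Equiv.Perm.mul_apply]; exact (h _ (h _ ih).2).1

theorem Inv.orb_subset {S : Finset α} (h : d.Inv S) {p : α} (hp : p ∈ S) : orb d.s p ⊆ S := by
  intro q hq
  obtain ⟨i, -, rfl⟩ := mem_orb.1 hq
  exact Inv.pow d h hp i

theorem Inv.comp_subset {S : Finset α} (h : d.Inv S) {p : α} (hp : p ∈ S) : d.comp p ⊆ S :=
  Finset.union_subset (Inv.orb_subset d h hp) (Inv.orb_subset d h (h p hp).1)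

theorem Inv.union {S T : Finset α} (hS : d.Inv S) (hT : d.Inv T) : d.Inv (S ∪ T) := fun p hp => by
  rcases Finset.mem_union.1 hp with h | h
  · exact ⟨Finset.mem_union_left _ (hS p h).1, Finset.mem_union_left _ (hS p h).2⟩
  · exact ⟨Finset.mem_union_right _ (hT p h).1, Finset.mem_union_right _ (hT p h).2⟩

theorem Inv.sdiff {S T : Finset α} (hS : d.Inv S) (hT : d.Inv T) : d.Inv (S \ T) := fun p hp => by
  rw [Finset.mem_sdiff] at hp
  refine ⟨Finset.mem_sdiff.2 ⟨(hS p hp.1).1, fun e => hp.2 ?_⟩,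
    Finset.mem_sdiff.2 ⟨(hS p hp.1).2, fun e => hp.2 ?_⟩⟩
  · have := (hT _ e).1
    rwa [d.x_x] at this
  · have := (hT _ e).2
    rwa [← Equiv.Perm.mul_apply, d.yy, Equiv.Perm.one_apply] at this

/-- The correcting permutation applied to `x`. -/
def cw (w : Equiv.Perm α) : Equiv.Perm α := w * d.x * w⁻¹ * d.x

/-- Some conjugate of `x` has products of odd order with both on `S`. -/
def Q (S : Finset α) : Prop :=
  ∃ w : Equiv.Perm α, (∀ p ∉ S, w p = p) ∧ ∀ p ∈ S, Good (d.cw w) p ∧ Good (d.cw w * d.s) p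

theorem Q_of_good {S : Finset α} (h : ∀ p ∈ S, Odd (per d.s p)) : d.Q S := by
  refine ⟨1, fun p _ => rfl, fun p hp => ?_⟩
  rw [cw, inv_one, mul_one, one_mul, d.xx, one_mul]
  exact ⟨Good.of_fixed rfl, Good.of_per (h p hp)⟩

theorem w_mem {S : Finset α} {w : Equiv.Perm α} (hw : ∀ p ∉ S, w p = p) {p : α} (hp : p ∈ S) :
    w p ∈ S ∧ w⁻¹ p ∈ S := by
  constructor
  · by_contra hn
    exact hn (by rwa [w.injective (hw _ hn)])
  · by_contra hn
    have := hw _ hn
    rw [← Equiv.Perm.mul_apply, mul_inv_cancel, Equiv.Perm.one_apply] at this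
    exact hn (this ▸ hp)

theorem Q.union {S T : Finset α} (hS : d.Inv S) (hT : d.Inv T) (hST : Disjoint S T) (h1 : d.Q S) (h2 : d.Q T) :
    d.Q (S ∪ T) := by
  obtain ⟨w, hw, hwg⟩ := h1
  obtain ⟨v, hv, hvg⟩ := h2
  refine ⟨w * v, fun p hp => ?_, fun p hp => ?_⟩
  · rw [Finset.notMem_union] at hp
    rw [Equiv.Perm.mul_apply, hv p hp.2, hw p hp.1]
  have hinv : ∀ {f : Equiv.Perm α} {A : Finset α}, (∀ q ∉ A, f q = q) → ∀ q ∉ A, f⁻¹ q = q := fun hf q hq => by
    conv_lhs => rw [← hf q hq]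
    rw [← Equiv.Perm.mul_apply, inv_mul_cancel, Equiv.Perm.one_apply]
  have onS : ∀ q ∈ S, d.cw (w * v) q = d.cw w q := by
    intro q hq
    have a1 : d.x q ∈ S := (hS q hq).1
    have a2 : w⁻¹ (d.x q) ∈ S := (w_mem hw a1).2
    have a3 : d.x (w⁻¹ (d.x q)) ∈ S := (hS _ a2).1
    simp only [cw, mul_inv_rev, Equiv.Perm.mul_apply]
    rw [hinv hv _ (Finset.disjoint_left.1 hST a2), hv _ (Finset.disjoint_left.1 hST a3)]
  have onT : ∀ q ∈ T, d.cw (w * v) q = d.cw v q := by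
    intro q hq
    have a1 : d.x q ∈ T := (hT q hq).1
    have a2 : v⁻¹ (d.x q) ∈ T := (w_mem hv a1).2
    have a3 : d.x (v⁻¹ (d.x q)) ∈ T := (hT _ a2).1
    simp only [cw, mul_inv_rev, Equiv.Perm.mul_apply]
    rw [hinv hw _ (Finset.disjoint_right.1 hST a1), hw _ (Finset.disjoint_right.1 hST (w_mem hv a3).1)]
  have lift : ∀ {A : Finset α} {f g : Equiv.Perm α}, (∀ q ∈ A, f q = g q ∧ g q ∈ A) → ∀ q ∈ A, Good g q → Good f q := by
    intro A f g hfg q hq ⟨m, hm, hgm⟩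
    refine ⟨m, hm, ?_⟩
    have : ∀ i, (f ^ i) q = (g ^ i) q ∧ (g ^ i) q ∈ A := by
      intro i
      induction i with
      | zero => exact ⟨rfl, hq⟩
      | succ i ih =>
        rw [pow_succ', pow_succ', Equiv.Perm.mul_apply, Equiv.Perm.mul_apply, ih.1]
        exact hfg _ ih.2
    rw [(this m).1, hgm]
  have cmem : ∀ {A : Finset α} {u : Equiv.Perm α}, d.Inv A → (∀ q ∉ A, u q = q) → ∀ q ∈ A, d.cw u q ∈ A := by
    intro A u hA hu q hq
    simp only [cw, Equiv.Perm.mul_apply]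
    exact (w_mem hu (hA _ (w_mem hu (hA q hq).1).2).1).1
  have smem : ∀ {A : Finset α}, d.Inv A → ∀ q ∈ A, d.s q ∈ A := fun hA q hq => by
    simpa using Inv.pow d hA hq 1
  rcases Finset.mem_union.1 hp with h | h
  · exact ⟨lift (fun q hq => ⟨onS q hq, cmem hS hw q hq⟩) p h (hwg p h).1,
      lift (fun q hq => by
        simp only [Equiv.Perm.mul_apply]
        exact ⟨onS _ (smem hS q hq), cmem hS hw _ (smem hS q hq)⟩) p h (hwg p h).2⟩
  · exact ⟨lift (fun q hq => ⟨onT q hq, cmem hT hv q hq⟩) p h (hvg p h).1,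
      lift (fun q hq => by
        simp only [Equiv.Perm.mul_apply]
        exact ⟨onT _ (smem hT q hq), cmem hT hv _ (smem hT q hq)⟩) p h (hvg p h).2⟩

theorem cw_swap (u u' : α) : d.cw (Equiv.swap u u') = Equiv.swap u u' * Equiv.swap (d.x u) (d.x u') := by
  rw [Equiv.swap_apply_apply, inv_eq_of_mul_eq_one_right d.xx, cw, Equiv.swap_inv]
  simp only [mul_assoc]

theorem cw_cyc (a b c : α) : d.cw (cyc a b c) = cyc a b c * cyc (d.x c) (d.x b) (d.x a) := by
  rw [← conj_cyc d.xx, cw]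
  simp only [mul_assoc]

/-- A transposed pair gives a cycle of length three. -/
theorem cw_swap_apply {u u' : α} (hu' : d.x u' = u') (h1 : u ≠ u') (h2 : d.x u ≠ u) :
    d.cw (Equiv.swap u u') u = u' ∧ d.cw (Equiv.swap u u') u' = d.x u ∧
      d.cw (Equiv.swap u u') (d.x u) = u ∧
      ∀ r, r ≠ u → r ≠ u' → r ≠ d.x u → d.cw (Equiv.swap u u') r = r := by
  have h3 : d.x u ≠ u' := fun e => h1 (by
    have := congrArg d.x e
    rwa [d.x_x, hu'] at this)
  rw [d.cw_swap, hu']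
  refine ⟨?_, ?_, ?_, fun r r1 r2 r3 => ?_⟩ <;> simp only [Equiv.Perm.mul_apply]
  · rw [Equiv.swap_apply_of_ne_of_ne h2.symm h1, Equiv.swap_apply_left]
  · rw [Equiv.swap_apply_right, Equiv.swap_apply_of_ne_of_ne h2 h3]
  · rw [Equiv.swap_apply_left, Equiv.swap_apply_right]
  · rw [Equiv.swap_apply_of_ne_of_ne r3 r2, Equiv.swap_apply_of_ne_of_ne r1 r2]

/-- Six distinct points give two cycles of length three. -/
theorem cw_cyc_apply {a b c : α} (hab : a ≠ b) (hac : a ≠ c) (hbc : b ≠ c)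
    (h : ∀ r, (r = a ∨ r = b ∨ r = c) → d.x r ≠ a ∧ d.x r ≠ b ∧ d.x r ≠ c) :
    d.cw (cyc a b c) a = b ∧ d.cw (cyc a b c) b = c ∧ d.cw (cyc a b c) c = a ∧
      d.cw (cyc a b c) (d.x c) = d.x b ∧ d.cw (cyc a b c) (d.x b) = d.x a ∧
      d.cw (cyc a b c) (d.x a) = d.x c ∧
      ∀ r, r ≠ a → r ≠ b → r ≠ c → r ≠ d.x a → r ≠ d.x b → r ≠ d.x c → d.cw (cyc a b c) r = r := by
  obtain ⟨a1, a2, a3⟩ := h a (Or.inl rfl)
  obtain ⟨b1, b2, b3⟩ := h b (Or.inr (Or.inl rfl))
  obtain ⟨c1, c2, c3⟩ := h c (Or.inr (Or.inr rfl))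
  have i : ∀ {p q : α}, p ≠ q → d.x p ≠ d.x q := fun hpq e => hpq (d.x.injective e)
  obtain ⟨t1, t2, t3⟩ := cyc_apply hab hac hbc
  obtain ⟨u1, u2, u3⟩ := cyc_apply (i hbc.symm) (i hac.symm) (i hab.symm)
  rw [d.cw_cyc]
  simp only [Equiv.Perm.mul_apply]
  refine ⟨?_, ?_, ?_, ?_, ?_, ?_, fun r r1 r2 r3 r4 r5 r6 => ?_⟩
  · rw [cyc_of_ne c1.symm b1.symm a1.symm, t1]
  · rw [cyc_of_ne c2.symm b2.symm a2.symm, t2]
  · rw [cyc_of_ne c3.symm b3.symm a3.symm, t3]
  · rw [u1, cyc_of_ne b1 b2 b3]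
  · rw [u2, cyc_of_ne a1 a2 a3]
  · rw [u3, cyc_of_ne c1 c2 c3]
  · rw [cyc_of_ne r6 r5 r4, cyc_of_ne r1 r2 r3]

theorem good_cw_six {a b c : α} (hab : a ≠ b) (hac : a ≠ c) (hbc : b ≠ c)
    (h : ∀ r, (r = a ∨ r = b ∨ r = c) → d.x r ≠ a ∧ d.x r ≠ b ∧ d.x r ≠ c) (p : α) :
    Good (d.cw (cyc a b c)) p := by
  obtain ⟨e1, e2, e3, e4, e5, e6, e7⟩ := d.cw_cyc_apply hab hac hbc h
  obtain ⟨g1, g2, g3⟩ := good_three e1 e2 e3
  obtain ⟨g4, g5, g6⟩ := good_three e4 e5 e6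
  by_cases h1 : p = a; · exact h1 ▸ g1
  by_cases h2 : p = b; · exact h2 ▸ g2
  by_cases h3 : p = c; · exact h3 ▸ g3
  by_cases h4 : p = d.x c; · exact h4 ▸ g4
  by_cases h5 : p = d.x b; · exact h5 ▸ g5
  by_cases h6 : p = d.x a; · exact h6 ▸ g6
  exact Good.of_fixed (e7 p h1 h2 h3 h6 h5 h4)

theorem orb_ne {p q r : α} (hq : q ∈ orb d.s p) (hr : r ∉ orb d.s p) : q ≠ r := fun e => hr (e ▸ hq)

theorem move_split {u u' : α} (hu : d.y u = u) (hu' : d.x u' = u') (he : Even (per d.s u))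
    (he' : Even (per d.s u')) (hne : u' ∉ orb d.s u) : d.Q (orb d.s u ∪ orb d.s u') := by
  set L := per d.s u with hLdef
  have hsu : d.s u = d.x u := by rw [s, Equiv.Perm.mul_apply, hu]
  have hL : 2 ≤ L := by
    have := per_pos d.s u
    obtain ⟨k, hk⟩ := he
    omega
  have hxu : d.x u ≠ u := by
    intro e
    have h1 : (d.s ^ 1) u = (d.s ^ 0) u := by rw [pow_one, hsu, e]; rfl
    have := (pow_eq_pow_iff (by omega) (by omega)).1 h1
    omega
  have hneu : u ≠ u' := fun e => hne (e ▸ self_mem_orb _ _)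
  obtain ⟨c1, c2, c3, c4⟩ := d.cw_swap_apply hu' hneu hxu
  refine ⟨Equiv.swap u u', fun p hp => ?_, fun p hp => ?_⟩
  · rw [Finset.notMem_union] at hp
    exact Equiv.swap_apply_of_ne_of_ne (d.orb_ne (self_mem_orb _ _) hp.1).symm
      (d.orb_ne (self_mem_orb _ _) hp.2).symm
  refine ⟨?_, ?_⟩
  · obtain ⟨g1, g2, g3⟩ := good_three c1 c2 c3
    by_cases h1 : p = u; · exact h1 ▸ g1
    by_cases h2 : p = u'; · exact h2 ▸ g2
    by_cases h3 : p = d.x u; · exact h3 ▸ g3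
    exact Good.of_fixed (c4 p h1 h2 h3)
  set τ := d.cw (Equiv.swap u u') * d.s with hτ
  have hτu : τ u = u := by rw [hτ, Equiv.Perm.mul_apply, hsu, c3]
  have hvo : d.x u ∈ orb d.s u := hsu ▸ (by simpa using pow_mem_orb d.s u 1)
  have hpv : per d.s (d.x u) = L := d.per_x u
  have hsv : ∀ i, (d.s ^ i) (d.x u) = (d.s ^ (i + 1)) u := fun i => by rw [← hsu, pow_succ, Equiv.Perm.mul_apply]
  have seg1 : ∀ i, 1 ≤ i → i < L - 1 → d.cw (Equiv.swap u u') ((d.s ^ i) (d.x u)) = (d.s ^ i) (d.x u) := by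
    intro i h1 h2
    refine c4 _ ?_ (d.orb_ne (by rw [hsv]; exact pow_mem_orb _ _ _) hne) ?_
    · rw [hsv]
      intro e
      have := (pow_eq_pow_iff (j := 0) (by omega) (by omega)).1 (e.trans (by rfl))
      omega
    · intro e
      have := (pow_eq_pow_iff (j := 0) (by omega) (by omega)).1 (e.trans (by rfl))
      omega
  have seg2 : ∀ i, 1 ≤ i → i < per d.s u' → d.cw (Equiv.swap u u') ((d.s ^ i) u') = (d.s ^ i) u' := by
    intro i h1 h2
    have hno : ∀ r ∈ orb d.s u, (d.s ^ i) u' ≠ r := fun r hr e => hne (by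
      rw [← orb_eq_of_mem hr, ← e]
      exact mem_orb_comm.1 (pow_mem_orb _ _ _))
    refine c4 _ (hno u (self_mem_orb _ _)) ?_ (hno _ hvo)
    intro e
    have := (pow_eq_pow_iff (j := 0) h2 (by omega)).1 (e.trans (by rfl))
    omega
  have e1 : (τ ^ (L - 1)) (d.x u) = u' := by
    rw [hτ, seg_end (by omega) seg1, hsv, show L - 1 + 1 = L by omega, hLdef, pow_per, c1]
  have e2 : (τ ^ per d.s u') u' = d.x u := by
    rw [hτ, seg_end (per_pos _ _) seg2, pow_per, c2]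
  have hN : (τ ^ (per d.s u' + (L - 1))) (d.x u) = d.x u := by
    rw [pow_add, Equiv.Perm.mul_apply, e1, e2]
  have hodd : Odd (per d.s u' + (L - 1)) := by
    obtain ⟨k, hk⟩ := he; obtain ⟨k', hk'⟩ := he'
    exact ⟨k + k' - 1, by omega⟩
  rcases Finset.mem_union.1 hp with h | h
  · by_cases h0 : p = u
    · exact Good.of_fixed (h0 ▸ hτu)
    obtain ⟨i, hi, rfl⟩ := mem_orb.1 h
    obtain ⟨j, rfl⟩ : ∃ j, i = j + 1 := Nat.exists_eq_succ_of_ne_zero (by rintro rfl; exact h0 rfl)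
    rw [← hsv, ← seg_lt seg1 j (by omega)]
    exact Good.of_iterate hodd hN j
  · obtain ⟨i, hi, rfl⟩ := mem_orb.1 h
    rw [← seg_lt seg2 i hi, ← hτ, ← e1, ← Equiv.Perm.mul_apply, ← pow_add]
    exact Good.of_iterate hodd hN _

theorem move_merge {u u' : α} (hB : d.x u ∉ orb d.s u) (hu' : d.x u' = u') (ho : Odd (per d.s u')) :
    d.Q (d.comp u ∪ orb d.s u') := by
  set L := per d.s u with hLdef
  set v := d.x u with hv
  have hpv : per d.s v = L := d.per_x u
  have hfix : orb d.s (d.x u') = orb d.s u' := by rw [hu']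
  have hn1 : u' ∉ orb d.s u := fun e => hB (by
    have h1 := d.orb_x_of_mem e
    rw [hfix, orb_eq_of_mem e] at h1
    exact h1 ▸ self_mem_orb _ _)
  have hn2 : u' ∉ orb d.s v := fun e => hB (by
    have h1 := d.orb_x_of_mem e
    rw [hfix, orb_eq_of_mem e, hv, d.x_x] at h1
    exact h1 ▸ self_mem_orb _ _)
  have hxu : d.x u ≠ u := fun e => hB (e ▸ self_mem_orb _ _)
  have hneu : u ≠ u' := fun e => hn1 (e ▸ self_mem_orb _ _)
  obtain ⟨c1, c2, c3, c4⟩ := d.cw_swap_apply hu' hneu hxu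
  refine ⟨Equiv.swap u u', fun p hp => ?_, fun p hp => ?_⟩
  · rw [comp, Finset.notMem_union, Finset.notMem_union] at hp
    exact Equiv.swap_apply_of_ne_of_ne (d.orb_ne (self_mem_orb _ _) hp.1.1).symm
      (d.orb_ne (self_mem_orb _ _) hp.2).symm
  refine ⟨?_, ?_⟩
  · obtain ⟨g1, g2, g3⟩ := good_three c1 c2 c3
    by_cases h1 : p = u; · exact h1 ▸ g1
    by_cases h2 : p = u'; · exact h2 ▸ g2
    by_cases h3 : p = d.x u; · exact h3 ▸ g3
    exact Good.of_fixed (c4 p h1 h2 h3)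
  set c := d.cw (Equiv.swap u u') with hc
  have away : ∀ (q : α) (i : ℕ), 1 ≤ i → i < per d.s q → (d.s ^ i) q ≠ q := by
    intro q i h1 h2 e
    have := (pow_eq_pow_iff (j := 0) h2 (by omega)).1 (e.trans (by rfl))
    omega
  have other : ∀ (q r : α) (i : ℕ), r ∉ orb d.s q → (d.s ^ i) q ≠ r := fun q r i hr e =>
    hr (e ▸ pow_mem_orb _ _ _)
  have nuv : u ∉ orb d.s v := fun e => hB (mem_orb_comm.1 e)
  have nu'u : u ∉ orb d.s u' := fun e => hn1 (mem_orb_comm.1 e)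
  have nu'v : v ∉ orb d.s u' := fun e => hn2 (mem_orb_comm.1 e)
  have segu : ∀ i, 1 ≤ i → i < L → c ((d.s ^ i) u) = (d.s ^ i) u := fun i h1 h2 =>
    c4 _ (away _ i h1 h2) (other _ _ i hn1) (other _ _ i hB)
  have segu' : ∀ i, 1 ≤ i → i < per d.s u' → c ((d.s ^ i) u') = (d.s ^ i) u' := fun i h1 h2 =>
    c4 _ (other _ _ i nu'u) (away _ i h1 h2) (other _ _ i nu'v)
  have segv : ∀ i, 1 ≤ i → i < L → c ((d.s ^ i) v) = (d.s ^ i) v := fun i h1 h2 =>
    c4 _ (other _ _ i nuv) (other _ _ i hn2) (away _ i h1 (hpv.symm ▸ h2))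
  have e1 : ((c * d.s) ^ L) u = u' := by rw [seg_end (per_pos _ _) segu, pow_per, c1]
  have e2 : ((c * d.s) ^ per d.s u') u' = v := by rw [seg_end (per_pos _ _) segu', pow_per, c2]
  have e3 : ((c * d.s) ^ L) v = u := by
    rw [seg_end (hpv ▸ per_pos _ _) segv]
    conv_lhs => rw [← hpv, pow_per, c3]
  set N := L + (per d.s u' + L) with hNd
  have hN : ((c * d.s) ^ N) u = u := by
    rw [hNd, pow_add, pow_add, Equiv.Perm.mul_apply, Equiv.Perm.mul_apply, e1, e2, e3]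
  have hodd : Odd N := by
    obtain ⟨k, hk⟩ := ho
    exact ⟨L + k, by omega⟩
  rw [comp, Finset.mem_union, Finset.mem_union] at hp
  rcases hp with (h | h) | h <;> obtain ⟨i, hi, rfl⟩ := mem_orb.1 h
  · rw [← seg_lt segu i hi]
    exact Good.of_iterate hodd hN i
  · rw [← seg_lt segv i (by rw [← hpv]; exact hi), ← e2, ← e1, ← Equiv.Perm.mul_apply, ← Equiv.Perm.mul_apply,
      ← pow_add, ← pow_add]
    exact Good.of_iterate hodd hN _
  · rw [← seg_lt segu' i hi, ← e1, ← Equiv.Perm.mul_apply, ← pow_add]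
    exact Good.of_iterate hodd hN _

end Pair

end Cfsg.Agent.InvolutionGraph
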