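/-
The correcting permutations for pairs of components with even periods.

* `even_even`, `even_odd`, `self_long`, `combined`, `three`
-/
import Cfsg.Agent.Lib.InvolutionGraph.Pieces
import Cfsg.Agent.EqLemmas

set_option autoImplicit false
set_option linter.unusedSectionVars false

namespace Cfsg.Agent.InvolutionGraph

variable {α : Type*} [DecidableEq α] [Fintype α]

theorem loop_two {σ c : Equiv.Perm α} {p q : α} {k l : ℕ} (hk : 1 ≤ k) (hl : 1 ≤ l)
    (hp : ∀ i, 1 ≤ i → i < k → c ((σ ^ i) p) = (σ ^ i) p)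
    (hq : ∀ i, 1 ≤ i → i < l → c ((σ ^ i) q) = (σ ^ i) q)
    (ep : c ((σ ^ k) p) = q) (eq : c ((σ ^ l) q) = p) (hodd : Odd (k + l)) :
    (∀ i < k, Good (c * σ) ((σ ^ i) p)) ∧ ∀ i < l, Good (c * σ) ((σ ^ i) q) := by
  have e1 : ((c * σ) ^ k) p = q := by rw [seg_end hk hp, ep]
  have e2 : ((c * σ) ^ l) q = p := by rw [seg_end hl hq, eq]
  have hN : ((c * σ) ^ (l + k)) p = p := by rw [pow_add, Equiv.Perm.mul_apply, e1, e2]
  rw [add_comm] at hodd
  refine ⟨fun i hi => ?_, fun i hi => ?_⟩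
  · rw [← seg_lt hp i hi]
    exact Good.of_iterate hodd hN i
  · rw [← seg_lt hq i hi, ← e1, ← Equiv.Perm.mul_apply, ← pow_add]
    exact Good.of_iterate hodd hN _

theorem loop_three {σ c : Equiv.Perm α} {p q r : α} {k l m : ℕ} (hk : 1 ≤ k) (hl : 1 ≤ l) (hm : 1 ≤ m)
    (hp : ∀ i, 1 ≤ i → i < k → c ((σ ^ i) p) = (σ ^ i) p)
    (hq : ∀ i, 1 ≤ i → i < l → c ((σ ^ i) q) = (σ ^ i) q)
    (hr : ∀ i, 1 ≤ i → i < m → c ((σ ^ i) r) = (σ ^ i) r)
    (ep : c ((σ ^ k) p) = q) (eq : c ((σ ^ l) q) = r) (er : c ((σ ^ m) r) = p) (hodd : Odd (m + l + k)) :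
    (∀ i < k, Good (c * σ) ((σ ^ i) p)) ∧ (∀ i < l, Good (c * σ) ((σ ^ i) q)) ∧
      ∀ i < m, Good (c * σ) ((σ ^ i) r) := by
  have e1 : ((c * σ) ^ k) p = q := by rw [seg_end hk hp, ep]
  have e2 : ((c * σ) ^ l) q = r := by rw [seg_end hl hq, eq]
  have e3 : ((c * σ) ^ m) r = p := by rw [seg_end hm hr, er]
  have hN : ((c * σ) ^ (m + l + k)) p = p := by
    rw [pow_add, pow_add, Equiv.Perm.mul_apply, e1, Equiv.Perm.mul_apply, e2, e3]
  refine ⟨fun i hi => ?_, fun i hi => ?_, fun i hi => ?_⟩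
  · rw [← seg_lt hp i hi]
    exact Good.of_iterate hodd hN i
  · rw [← seg_lt hq i hi, ← e1, ← Equiv.Perm.mul_apply, ← pow_add]
    exact Good.of_iterate hodd hN _
  · rw [← seg_lt hr i hi, ← e2, ← e1, ← Equiv.Perm.mul_apply, ← Equiv.Perm.mul_apply, ← pow_add, ← pow_add]
    exact Good.of_iterate hodd hN _

theorem pow_ne {σ : Equiv.Perm α} {p q : α} (h : q ∉ orb σ p) (i : ℕ) : (σ ^ i) p ≠ q := fun e =>
  h (e ▸ pow_mem_orb _ _ _)

theorem pow_ne_pow {σ : Equiv.Perm α} {p : α} {i j : ℕ} (hi : i < per σ p) (hj : j < per σ p) (h : i ≠ j) :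
    (σ ^ i) p ≠ (σ ^ j) p := fun e => h ((pow_eq_pow_iff hi hj).1 e)

theorem pow_ne_out {σ : Equiv.Perm α} {p q r : α} (hq : q ∈ orb σ p) (hr : r ∉ orb σ p) (i : ℕ) :
    (σ ^ i) q ≠ r := pow_ne (by rwa [orb_eq_of_mem hq]) i

theorem pow_ne_in {σ : Equiv.Perm α} {p q r : α} (hr : r ∈ orb σ p) (hq : q ∉ orb σ p) (i : ℕ) :
    (σ ^ i) q ≠ r := fun e => hq (by
  rw [← orb_eq_of_mem hr, ← e]
  exact mem_orb_comm.1 (pow_mem_orb _ _ _))

theorem notMem_of_mem {σ : Equiv.Perm α} {p q r : α} (hr : r ∈ orb σ p) (hq : q ∉ orb σ p) : r ∉ orb σ q :=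
  fun e => hq (by
    rw [← orb_eq_of_mem hr]
    exact mem_orb_comm.1 e)

namespace Pair

variable (d : Pair α)

/-- The four orbits attached to two components. -/
theorem four_orbits {a c : α} (hd : c ∉ d.comp a) :
    c ∉ orb d.s a ∧ c ∉ orb d.s (d.x a) ∧ d.x c ∉ orb d.s a ∧ d.x c ∉ orb d.s (d.x a) ∧
      a ∉ orb d.s c ∧ a ∉ orb d.s (d.x c) ∧ d.x a ∉ orb d.s c ∧ d.x a ∉ orb d.s (d.x c) := by
  rw [comp, Finset.notMem_union] at hd
  obtain ⟨h1, h2⟩ := hd
  have h3 : d.x c ∉ orb d.s a := fun e => h2 (by simpa [d.x_x] using d.x_mem_orb e)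
  have h4 : d.x c ∉ orb d.s (d.x a) := fun e => h1 (by simpa [d.x_x] using d.x_mem_orb e)
  exact ⟨h1, h2, h3, h4, fun e => h1 (mem_orb_comm.1 e), fun e => h3 (mem_orb_comm.1 e),
    fun e => h2 (mem_orb_comm.1 e), fun e => h4 (mem_orb_comm.1 e)⟩

theorem x_succ (a : α) : (d.s ^ (per d.s a - 1)) (d.x a) = d.x (d.s a) := by
  obtain ⟨k, hk⟩ : ∃ k, per d.s a = k + 1 := ⟨per d.s a - 1, by have := per_pos d.s a; omega⟩
  have h := d.pow_x (d.s a) k
  rw [← Equiv.Perm.mul_apply (d.s ^ k) d.s, ← pow_succ, ← hk, pow_per] at h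
  rw [hk, Nat.add_sub_cancel]
  exact h

theorem even_even {a c : α} (hBa : d.x a ∉ orb d.s a) (hBc : d.x c ∉ orb d.s c) (hd : c ∉ d.comp a)
    (he : Even (per d.s a)) (he' : Even (per d.s c)) : d.Q (d.comp a ∪ d.comp c) := by
  obtain ⟨n1, n2, n3, n4, m1, m2, m3, m4⟩ := d.four_orbits hd
  set L := per d.s a with hLdef
  have hL : 2 ≤ L := by have := per_pos d.s a; obtain ⟨k, hk⟩ := he; omega
  have hBa' : a ∉ orb d.s (d.x a) := fun e => hBa (mem_orb_comm.1 e)
  have hBc' : c ∉ orb d.s (d.x c) := fun e => hBc (mem_orb_comm.1 e)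
  have hpx : per d.s (d.x a) = L := d.per_x a
  have hpc : per d.s (d.x c) = per d.s c := d.per_x c
  set b := d.s a with hb
  have hb1 : (d.s ^ 1) a = b := by rw [pow_one]
  have hbo : b ∈ orb d.s a := hb1 ▸ pow_mem_orb _ _ _
  have hBo : d.x b ∈ orb d.s (d.x a) := d.x_mem_orb hbo
  have hab : b ≠ a := hb1 ▸ pow_ne_pow (j := 0) (by omega) (by omega) (by omega)
  have hac : a ≠ c := (d.orb_ne (self_mem_orb _ _) n1)
  have hbc : b ≠ c := d.orb_ne hbo n1
  have hsix : ∀ r, (r = b ∨ r = a ∨ r = c) → d.x r ≠ b ∧ d.x r ≠ a ∧ d.x r ≠ c := by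
    rintro r (rfl | rfl | rfl)
    · exact ⟨(d.orb_ne hbo (notMem_of_mem hBo hBa')).symm,
        d.orb_ne hBo hBa', d.orb_ne hBo n2⟩
    · exact ⟨(d.orb_ne hbo hBa).symm, (d.orb_ne (self_mem_orb _ _) hBa).symm, (d.orb_ne (self_mem_orb _ _) n2)⟩
    · exact ⟨(d.orb_ne hbo n3).symm, (d.orb_ne (self_mem_orb _ _) n3).symm, (d.orb_ne (self_mem_orb _ _) hBc).symm⟩
  obtain ⟨c1, c2, c3, c4, c5, c6, c7⟩ := d.cw_cyc_apply hab hbc hac hsix
  refine ⟨cyc b a c, fun p hp => ?_, fun p hp => ⟨d.good_cw_six hab hbc hac hsix p, ?_⟩⟩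
  · rw [comp, comp, Finset.notMem_union, Finset.notMem_union, Finset.notMem_union] at hp
    exact cyc_of_ne (d.orb_ne hbo hp.1.1).symm (d.orb_ne (self_mem_orb _ _) hp.1.1).symm
      (d.orb_ne (self_mem_orb _ _) hp.2.1).symm
  set C := d.cw (cyc b a c) with hC
  have hAB : (d.s ^ (L - 1)) (d.x a) = d.x b := d.x_succ a
  have hodd : Odd (L - 1 + per d.s c) := by
    obtain ⟨k, hk⟩ := he; obtain ⟨k', hk'⟩ := he'; exact ⟨k + k' - 1, by omega⟩
  have hbi : ∀ i, (d.s ^ i) b = (d.s ^ (i + 1)) a := fun i => by rw [pow_succ, Equiv.Perm.mul_apply]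
  have hxa := self_mem_orb d.s (d.x a)
  have l1 := loop_two (σ := d.s) (c := C) (p := b) (q := c) (k := L - 1) (l := per d.s c) (by omega)
    (per_pos _ _) (fun i h1 h2 => c7 _ (by rw [hbi]; exact hb1 ▸ pow_ne_pow (by omega) (by omega) (by omega))
      (by rw [hbi]; exact pow_ne_pow (j := 0) (by omega) (by omega) (by omega))
      (pow_ne_out hbo n1 _) (pow_ne_out hbo (notMem_of_mem hBo hBa') _) (pow_ne_out hbo hBa _)
      (pow_ne_out hbo n3 _))
    (fun i h1 h2 => c7 _ (pow_ne_in hbo n1 _)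
      (pow_ne m1 _) (pow_ne_pow (j := 0) h2 (by omega) (by omega)) (pow_ne_in hBo n2 _) (pow_ne m3 _)
      (pow_ne hBc _))
    (by rw [hbi, show L - 1 + 1 = L by omega, hLdef, pow_per, c2])
    (by rw [pow_per, c3]) hodd
  have l2 := loop_two (σ := d.s) (c := C) (p := d.x a) (q := d.x c) (k := L - 1) (l := per d.s c) (by omega)
    (per_pos _ _) (fun i h1 h2 => c7 _ (pow_ne_in hbo hBa _)
      (pow_ne hBa' _) (pow_ne n2 _) (by rw [← hAB]; exact pow_ne_pow (by omega) (by omega) (by omega))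
      (pow_ne_pow (j := 0) (by omega) (by omega) (by omega)) (pow_ne n4 _))
    (fun i h1 h2 => c7 _ (pow_ne_in hbo n3 _)
      (pow_ne m2 _) (pow_ne hBc' _) (pow_ne_in hBo n4 _) (pow_ne m4 _)
      (pow_ne_pow (j := 0) (by omega) (by omega) (by omega)))
    (by rw [hAB, c6]) (by rw [← hpc, pow_per, c4]) hodd
  rw [comp, comp, Finset.mem_union, Finset.mem_union, Finset.mem_union] at hp
  rcases hp with (h | h) | (h | h) <;> obtain ⟨i, hi, rfl⟩ := mem_orb.1 h
  · rcases i with _ | j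
    · exact Good.of_fixed (show C (d.s a) = a from c1)
    · rw [pow_succ, Equiv.Perm.mul_apply]
      exact l1.1 j (by omega)
  · by_cases hi' : i = L - 1
    · subst hi'
      rw [hAB]
      refine Good.of_fixed ?_
      rw [Equiv.Perm.mul_apply, ← hAB, ← Equiv.Perm.mul_apply d.s, ← pow_succ', show L - 1 + 1 = per d.s (d.x a) by omega,
        pow_per]
      rw [hAB]
      exact c5
    · exact l2.1 i (by omega)
  · exact l1.2 i hi
  · exact l2.2 i (by omega)

theorem even_odd {a c : α} (hBa : d.x a ∉ orb d.s a) (hBc : d.x c ∉ orb d.s c) (hd : c ∉ d.comp a)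
    (he : Even (per d.s a)) (he' : Odd (per d.s c)) : d.Q (d.comp a ∪ d.comp c) := by
  obtain ⟨n1, n2, n3, n4, m1, m2, m3, m4⟩ := d.four_orbits hd
  set L := per d.s a with hLdef
  have hL : 2 ≤ L := by have := per_pos d.s a; obtain ⟨k, hk⟩ := he; omega
  have hBa' : a ∉ orb d.s (d.x a) := fun e => hBa (mem_orb_comm.1 e)
  have hBc' : c ∉ orb d.s (d.x c) := fun e => hBc (mem_orb_comm.1 e)
  have hpx : per d.s (d.x a) = L := d.per_x a
  have hpc : per d.s (d.x c) = per d.s c := d.per_x c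
  set b := d.s a with hb
  have hb1 : (d.s ^ 1) a = b := by rw [pow_one]
  have hbo : b ∈ orb d.s a := hb1 ▸ pow_mem_orb _ _ _
  have hBo : d.x b ∈ orb d.s (d.x a) := d.x_mem_orb hbo
  have hab : b ≠ a := hb1 ▸ pow_ne_pow (j := 0) (by omega) (by omega) (by omega)
  have hxa := self_mem_orb d.s (d.x a)
  have haa := self_mem_orb d.s a
  have haC : a ≠ d.x c := d.orb_ne haa n3
  have haB : a ≠ d.x b := (d.orb_ne hBo hBa').symm
  have hCB : d.x c ≠ d.x b := (d.orb_ne hBo n4).symm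
  have hsix : ∀ r, (r = a ∨ r = d.x c ∨ r = d.x b) → d.x r ≠ a ∧ d.x r ≠ d.x c ∧ d.x r ≠ d.x b := by
    rintro r (rfl | rfl | rfl) <;> (try simp only [d.x_x])
    · exact ⟨d.orb_ne hxa hBa', d.orb_ne hxa n4, fun e => hab (d.x.injective e).symm⟩
    · exact ⟨(d.orb_ne haa n1).symm, (d.orb_ne (self_mem_orb _ _) hBc), (d.orb_ne hBo n2).symm⟩
    · exact ⟨hab, d.orb_ne hbo n3, d.orb_ne hbo (notMem_of_mem hBo hBa')⟩
  obtain ⟨c1, c2, c3, c4, c5, c6, c7⟩ := d.cw_cyc_apply haC haB hCB hsix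
  rw [d.x_x] at c4 c5 c6
  rw [d.x_x] at c4
  simp only [d.x_x] at c7
  refine ⟨cyc a (d.x c) (d.x b), fun p hp => ?_, fun p hp => ⟨d.good_cw_six haC haB hCB hsix p, ?_⟩⟩
  · rw [comp, comp, Finset.notMem_union, Finset.notMem_union, Finset.notMem_union] at hp
    exact cyc_of_ne (d.orb_ne haa hp.1.1).symm (d.orb_ne (self_mem_orb _ _) hp.2.2).symm
      (d.orb_ne hBo hp.1.2).symm
  set C := d.cw (cyc a (d.x c) (d.x b)) with hC
  have hAB : (d.s ^ (L - 1)) (d.x a) = d.x b := d.x_succ a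
  have hbi : ∀ i, (d.s ^ i) b = (d.s ^ (i + 1)) a := fun i => by rw [pow_succ, Equiv.Perm.mul_apply]
  have hodd : ∀ k l, k + l = L → Odd (k + per d.s c + l) := fun k l e => by
    obtain ⟨i, hi⟩ := he; obtain ⟨j, hj⟩ := he'; exact ⟨i + j, by omega⟩
  have hsB : (d.s ^ 1) (d.x b) = d.x a := by
    rw [← hAB, ← Equiv.Perm.mul_apply, ← pow_add, show 1 + (L - 1) = per d.s (d.x a) by omega, pow_per]
  have l1 := loop_three (σ := d.s) (c := C) (p := a) (q := c) (r := d.x a) (k := 1) (l := per d.s c) (m := L - 1)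
    le_rfl (per_pos _ _) (by omega) (fun i h1 h2 => absurd h2 (by omega))
    (fun i h1 h2 => c7 _ (pow_ne m1 _) (pow_ne hBc _) (pow_ne_in hBo n2 _) (pow_ne m3 _)
      (pow_ne_pow (j := 0) h2 (by omega) (by omega)) (pow_ne_in hbo n1 _))
    (fun i h1 h2 => c7 _ (pow_ne hBa' _) (pow_ne n4 _) (by rw [← hAB]; exact pow_ne_pow (by omega) (by omega) (by omega))
      (pow_ne_pow (j := 0) (by omega) (by omega) (by omega)) (pow_ne n2 _) (pow_ne_in hbo hBa _))
    (by rw [hb1, c4]) (by rw [pow_per, c5]) (by rw [hAB, c3]) (hodd _ _ (by omega))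
  have l2 := loop_three (σ := d.s) (c := C) (p := b) (q := d.x c) (r := d.x b) (k := L - 1) (l := per d.s c) (m := 1)
    (by omega) (per_pos _ _) le_rfl
    (fun i h1 h2 => c7 _ (by rw [hbi]; exact pow_ne_pow (j := 0) (by omega) (by omega) (by omega))
      (pow_ne_out hbo n3 _) (pow_ne_out hbo (notMem_of_mem hBo hBa') _) (pow_ne_out hbo hBa _) (pow_ne_out hbo n1 _)
      (by rw [hbi]; exact hb1 ▸ pow_ne_pow (by omega) (by omega) (by omega)))
    (fun i h1 h2 => c7 _ (pow_ne m2 _) (pow_ne_pow (j := 0) (by omega) (by omega) (by omega)) (pow_ne_in hBo n4 _)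
      (pow_ne m4 _) (pow_ne hBc' _) (pow_ne_in hbo n3 _))
    (fun i h1 h2 => absurd h2 (by omega))
    (by rw [hbi, show L - 1 + 1 = L by omega, hLdef, pow_per, c1]) (by rw [← hpc, pow_per, c2]) (by rw [hsB, c6])
    (hodd _ _ (by omega))
  rw [comp, comp, Finset.mem_union, Finset.mem_union, Finset.mem_union] at hp
  rcases hp with (h | h) | (h | h) <;> obtain ⟨i, hi, rfl⟩ := mem_orb.1 h
  · rcases i with _ | j
    · exact l1.1 0 (by omega)
    · rw [pow_succ, Equiv.Perm.mul_apply]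
      exact l2.1 j (by omega)
  · by_cases hi' : i = L - 1
    · subst hi'
      rw [hAB]
      exact l2.2.2 0 (by omega)
    · exact l1.2.2 i (by omega)
  · exact l1.2.1 i hi
  · exact l2.2.1 i (by omega)

theorem self_long {a : α} (hBa : d.x a ∉ orb d.s a) (he : Even (per d.s a)) (h4 : 4 ≤ per d.s a) :
    d.Q (d.comp a) := by
  set L := per d.s a with hLdef
  have hBa' : a ∉ orb d.s (d.x a) := fun e => hBa (mem_orb_comm.1 e)
  have hpx : per d.s (d.x a) = L := d.per_x a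
  set b := d.s a with hb
  have hb1 : (d.s ^ 1) a = b := by rw [pow_one]
  set c := d.s b with hc
  have hc2 : (d.s ^ 2) a = c := by rw [pow_two, Equiv.Perm.mul_apply]
  have hbo : b ∈ orb d.s a := hb1 ▸ pow_mem_orb _ _ _
  have hco : c ∈ orb d.s a := hc2 ▸ pow_mem_orb _ _ _
  have hBo : d.x b ∈ orb d.s (d.x a) := d.x_mem_orb hbo
  have hCo : d.x c ∈ orb d.s (d.x a) := d.x_mem_orb hco
  have hab : b ≠ a := hb1 ▸ pow_ne_pow (j := 0) (by omega) (by omega) (by omega)
  have hca : c ≠ a := hc2 ▸ pow_ne_pow (j := 0) (by omega) (by omega) (by omega)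
  have hcb : c ≠ b := hc2 ▸ hb1 ▸ pow_ne_pow (by omega) (by omega) (by omega)
  have hxa := self_mem_orb d.s (d.x a)
  have haa := self_mem_orb d.s a
  have sep : ∀ {p q : α}, p ∈ orb d.s a → q ∈ orb d.s (d.x a) → p ≠ q := fun hp hq =>
    d.orb_ne hp (notMem_of_mem hq hBa')
  have haC : a ≠ d.x c := sep haa hCo
  have hbC : b ≠ d.x c := sep hbo hCo
  have hsix : ∀ r, (r = b ∨ r = a ∨ r = d.x c) → d.x r ≠ b ∧ d.x r ≠ a ∧ d.x r ≠ d.x c := by
    rintro r (rfl | rfl | rfl) <;> (try simp only [d.x_x])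
    · exact ⟨(sep hbo hBo).symm, (sep haa hBo).symm, fun e => hcb (d.x.injective e).symm⟩
    · exact ⟨(sep hbo hxa).symm, (sep haa hxa).symm, fun e => hca (d.x.injective e).symm⟩
    · exact ⟨hcb, hca, sep hco hCo⟩
  obtain ⟨c1, c2, c3, c4, c5, c6, c7⟩ := d.cw_cyc_apply hab hbC haC hsix
  rw [d.x_x] at c4
  rw [d.x_x] at c6
  simp only [d.x_x] at c7
  refine ⟨cyc b a (d.x c), fun p hp => ?_, fun p hp => ⟨d.good_cw_six hab hbC haC hsix p, ?_⟩⟩
  · rw [comp, Finset.notMem_union] at hp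
    exact cyc_of_ne (d.orb_ne hbo hp.1).symm (d.orb_ne haa hp.1).symm (d.orb_ne hCo hp.2).symm
  set C := d.cw (cyc b a (d.x c)) with hC
  have hAB : (d.s ^ (L - 1)) (d.x a) = d.x b := d.x_succ a
  have hBC : (d.s ^ (L - 1)) (d.x b) = d.x c := by
    have := d.x_succ b
    rwa [show per d.s b = L from (per_apply _ _)] at this
  have hAC : (d.s ^ (L - 2)) (d.x a) = d.x c := by
    have hAL : (d.s ^ L) (d.x a) = d.x a := hpx ▸ pow_per d.s (d.x a)
    calc (d.s ^ (L - 2)) (d.x a) = (d.s ^ (L - 2 + L)) (d.x a) := by rw [pow_add, Equiv.Perm.mul_apply, hAL]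
      _ = (d.s ^ (L - 1)) ((d.s ^ (L - 1)) (d.x a)) := by
        rw [show L - 2 + L = L - 1 + (L - 1) by omega, pow_add, Equiv.Perm.mul_apply]
      _ = d.x c := by rw [hAB, hBC]
  have hci : ∀ i, (d.s ^ i) c = (d.s ^ (i + 2)) a := fun i => by rw [← hc2, ← Equiv.Perm.mul_apply, ← pow_add]
  have hsb : (d.s ^ 1) b = c := by rw [pow_one]
  have hsC : (d.s ^ 1) (d.x c) = d.x b := by
    rw [← hAC, ← hAB, ← Equiv.Perm.mul_apply, ← pow_add, show 1 + (L - 2) = L - 1 by omega]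
  have hsB : d.s (d.x b) = d.x a := by
    rw [← hAB, ← Equiv.Perm.mul_apply, ← pow_succ', show L - 1 + 1 = per d.s (d.x a) by omega, pow_per]
  have hodd : Odd (1 + (L - 2)) := by obtain ⟨i, hi⟩ := he; exact ⟨i - 1, by omega⟩
  have l1 := loop_two (σ := d.s) (c := C) (p := b) (q := d.x a) (k := 1) (l := L - 2)
    le_rfl (by omega) (fun i h1 h2 => absurd h2 (by omega))
    (fun i h1 h2 => c7 _ (pow_ne_in hbo hBa _) (pow_ne hBa' _)
      (by rw [← hAC]; exact pow_ne_pow (by omega) (by omega) (by omega))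
      (by rw [← hAB]; exact pow_ne_pow (by omega) (by omega) (by omega))
      (pow_ne_pow (j := 0) (by omega) (by omega) (by omega)) (pow_ne_in hco hBa _))
    (by rw [hsb]; exact c4) (by rw [hAC, c3]) hodd
  have l2 := loop_two (σ := d.s) (c := C) (p := c) (q := d.x c) (k := L - 2) (l := 1)
    (by omega) le_rfl
    (fun i h1 h2 => c7 _ (by rw [hci]; exact hb1 ▸ pow_ne_pow (by omega) (by omega) (by omega))
      (by rw [hci]; exact pow_ne_pow (j := 0) (by omega) (by omega) (by omega))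
      (pow_ne_out hco (notMem_of_mem hCo hBa') _) (pow_ne_out hco (notMem_of_mem hBo hBa') _) (pow_ne_out hco hBa _)
      (by rw [hci]; exact hc2 ▸ pow_ne_pow (by omega) (by omega) (by omega)))
    (fun i h1 h2 => absurd h2 (by omega))
    (by rw [hci, show L - 2 + 2 = L by omega, hLdef, pow_per, c2]) (by rw [hsC]; exact c6)
    (add_comm 1 (L - 2) ▸ hodd)
  rw [comp, Finset.mem_union] at hp
  rcases hp with h | h <;> obtain ⟨i, hi, rfl⟩ := mem_orb.1 h
  · rcases i with _ | _ | j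
    · exact Good.of_fixed (show C (d.s a) = a from c1)
    · rw [show 0 + 1 = 1 from rfl, hb1]
      exact l1.1 0 (by omega)
    · rw [← hci]
      exact l2.1 j (by omega)
  · by_cases hi1 : i = L - 1
    · subst hi1
      rw [hAB]
      refine Good.of_fixed ?_
      rw [Equiv.Perm.mul_apply, hsB]
      exact c5
    by_cases hi2 : i = L - 2
    · subst hi2
      rw [hAC]
      exact l2.2 0 (by omega)
    · exact l1.2 i (by omega)

theorem combined {u u' p : α} (hu : d.y u = u) (hu' : d.x u' = u') (he : Even (per d.s u))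
    (he' : Even (per d.s u')) (hne : u' ∉ orb d.s u) (hBp : d.x p ∉ orb d.s p) (h2 : per d.s p = 2)
    (hpu : p ∉ orb d.s u) (hpu' : p ∉ orb d.s u') : d.Q (orb d.s u ∪ orb d.s u' ∪ d.comp p) := by
  set L := per d.s u with hLdef
  set v := d.x u with hv
  set q := d.x p with hq
  have hsu : d.s u = v := by rw [s, Equiv.Perm.mul_apply, hu]
  have hL : 2 ≤ L := by have := per_pos d.s u; obtain ⟨k, hk⟩ := he; omega
  have hvo : v ∈ orb d.s u := hsu ▸ (by simpa using pow_mem_orb d.s u 1)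
  have huo := self_mem_orb d.s u
  have hu'o := self_mem_orb d.s u'
  have hqu : q ∉ orb d.s u := fun e => hpu (by
    have h := d.x_mem_orb e
    rwa [hq, d.x_x, ← hv, orb_eq_of_mem hvo] at h)
  have hqu' : q ∉ orb d.s u' := fun e => hpu' (by
    have h := d.x_mem_orb e
    rwa [hq, d.x_x, hu'] at h)
  have hBq : p ∉ orb d.s q := fun e => hBp (mem_orb_comm.1 e)
  have hpq : per d.s q = 2 := (d.per_x p).trans h2
  have hvu : v ≠ u := by
    intro e
    have := (pow_eq_pow_iff (σ := d.s) (p := u) (i := 1) (j := 0) (by omega) (by omega)).1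
      (by rw [pow_one, hsu, e]; rfl)
    omega
  have huu' : u ≠ u' := d.orb_ne huo hne
  have hvu' : v ≠ u' := d.orb_ne hvo hne
  have hup : u ≠ p := d.orb_ne huo hpu
  have hu'p : u' ≠ p := d.orb_ne hu'o hpu'
  have hvp : v ≠ p := d.orb_ne hvo hpu
  have huq : u ≠ q := d.orb_ne huo hqu
  have hu'q : u' ≠ q := d.orb_ne hu'o hqu'
  have hvq : v ≠ q := d.orb_ne hvo hqu
  have hqp : q ≠ p := (d.orb_ne (self_mem_orb _ _) hBp).symm
  set C := d.cw (cyc u u' p) with hC
  have hCd : C = cyc u u' p * cyc q u' v := by rw [hC, d.cw_cyc, hu']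
  obtain ⟨t1, t2, t3⟩ := cyc_apply huu' hup hu'p
  obtain ⟨r1, r2, r3⟩ := cyc_apply hu'q.symm hvq.symm hvu'.symm
  have c1 : C u = u' := by rw [hCd, Equiv.Perm.mul_apply, cyc_of_ne huq huu' hvu.symm, t1]
  have c2 : C u' = v := by rw [hCd, Equiv.Perm.mul_apply, r2, cyc_of_ne hvu hvu' hvp]
  have c3 : C v = q := by rw [hCd, Equiv.Perm.mul_apply, r3, cyc_of_ne huq.symm hu'q.symm hqp]
  have c4 : C q = p := by rw [hCd, Equiv.Perm.mul_apply, r1, t2]
  have c5 : C p = u := by rw [hCd, Equiv.Perm.mul_apply, cyc_of_ne hqp.symm hu'p.symm hvp.symm, t3]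
  have c6 : ∀ r, r ≠ u → r ≠ u' → r ≠ v → r ≠ q → r ≠ p → C r = r := fun r e1 e2 e3 e4 e5 => by
    rw [hCd, Equiv.Perm.mul_apply, cyc_of_ne e4 e2 e3, cyc_of_ne e1 e2 e5]
  refine ⟨cyc u u' p, fun r hr => ?_, fun r hr => ⟨?_, ?_⟩⟩
  · rw [comp, Finset.notMem_union, Finset.notMem_union, Finset.notMem_union] at hr
    exact cyc_of_ne (d.orb_ne huo hr.1.1).symm (d.orb_ne hu'o hr.1.2).symm
      (d.orb_ne (self_mem_orb _ _) hr.2.1).symm
  · obtain ⟨g1, g2, g3, g4, g5⟩ := good_five c1 c2 c3 c4 c5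
    by_cases h1 : r = u; · (rw [h1]; exact g1)
    by_cases h3 : r = u'; · (rw [h3]; exact g2)
    by_cases h4 : r = v; · (rw [h4]; exact g3)
    by_cases h5 : r = q; · (rw [h5]; exact g4)
    by_cases h6 : r = p; · (rw [h6]; exact g5)
    exact Good.of_fixed (c6 r h1 h3 h4 h5 h6)
  have hvi : ∀ i, (d.s ^ i) v = (d.s ^ (i + 1)) u := fun i => by rw [← hsu, pow_succ, Equiv.Perm.mul_apply]
  have hodd : Odd (L - 1 + per d.s u') := by
    obtain ⟨k, hk⟩ := he; obtain ⟨k', hk'⟩ := he'; exact ⟨k + k' - 1, by omega⟩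
  have l1 := loop_two (σ := d.s) (c := C) (p := v) (q := u') (k := L - 1) (l := per d.s u') (by omega)
    (per_pos _ _)
    (fun i h1 h3 => c6 _ (by rw [hvi]; exact pow_ne_pow (j := 0) (by omega) (by omega) (by omega))
      (pow_ne_out hvo hne _)
      (pow_ne_pow (j := 0) (by rw [show per d.s v = L from d.per_x u]; omega)
        (by rw [show per d.s v = L from d.per_x u]; omega) (by omega))
      (pow_ne_out hvo hqu _) (pow_ne_out hvo hpu _))
    (fun i h1 h3 => c6 _ (pow_ne_in huo hne _) (pow_ne_pow (j := 0) h3 (by omega) (by omega)) (pow_ne_in hvo hne _)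
      (pow_ne hqu' _) (pow_ne hpu' _))
    (by rw [hvi, show L - 1 + 1 = L by omega, hLdef, pow_per, c1]) (by rw [pow_per, c2]) hodd
  have hstep : ∀ w, per d.s w = 2 → w ∉ orb d.s u → w ∉ orb d.s u' → (w = p ∨ w = q) → ∀ i, 1 ≤ i → i < 2 →
      C ((d.s ^ i) w) = (d.s ^ i) w := by
    intro w hw w1 w2 w3 i h1 h3
    refine c6 _ (pow_ne_in huo w1 _) (pow_ne_in hu'o w2 _) (pow_ne_in hvo w1 _) ?_ ?_
    · rcases w3 with rfl | rfl
      · exact pow_ne hBp _
      · exact pow_ne_pow (j := 0) (by omega) (by omega) (by omega)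
    · rcases w3 with rfl | rfl
      · exact pow_ne_pow (j := 0) (by omega) (by omega) (by omega)
      · exact pow_ne hBq _
  have l2 := loop_three (σ := d.s) (c := C) (p := u) (q := q) (r := p) (k := 1) (l := 2) (m := 2)
    le_rfl (by omega) (by omega) (fun i h1 h3 => absurd h3 (by omega))
    (hstep q hpq hqu hqu' (Or.inr rfl)) (hstep p h2 hpu hpu' (Or.inl rfl))
    (by rw [pow_one, hsu, c3]) (by conv_lhs => rw [← hpq, pow_per, c4]) (by conv_lhs => rw [← h2, pow_per, c5])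
    (by decide)
  rw [comp, Finset.mem_union, Finset.mem_union, Finset.mem_union] at hr
  rcases hr with (h | h) | (h | h) <;> obtain ⟨i, hi, rfl⟩ := mem_orb.1 h
  · rcases i with _ | j
    · exact l2.1 0 (by omega)
    · rw [← hvi]
      exact l1.1 j (by omega)
  · exact l1.2 i hi
  · exact l2.2.2 i (by omega)
  · exact l2.2.1 i (by rw [← hpq]; exact hi)

/-- Index set of three components of four points. -/
abbrev I12 : Type := Fin 3 × Fin 2 × Fin 2

/-- The first involution on the model. -/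
def x12 : Equiv.Perm I12 :=
  ⟨fun i => (i.1, i.2.1 + 1, i.2.2), fun i => (i.1, i.2.1 + 1, i.2.2), by decide, by decide⟩

/-- The product on the model. -/
def s12 : Equiv.Perm I12 :=
  ⟨fun i => (i.1, i.2.1, i.2.2 + 1), fun i => (i.1, i.2.1, i.2.2 + 1), by decide, by decide⟩

/-- The correcting permutation on the model. -/
def w12 : Equiv.Perm I12 :=
  Equiv.swap ((0, 0, 1) : I12) (0, 1, 0) * Equiv.swap ((0, 1, 1) : I12) (1, 0, 0) *
    cyc ((1, 1, 0) : I12) (2, 0, 0) (1, 1, 1)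

set_option maxRecDepth 100000 in
theorem model_twelve : ∀ i : I12, ((w12 * x12 * w12⁻¹ * x12) ^ 15) i = i ∧
    ((w12 * x12 * w12⁻¹ * x12 * s12) ^ 15) i = i := by decide +kernel

theorem three (r : Fin 3 → α) (hB : ∀ i, d.x (r i) ∉ orb d.s (r i)) (hL : ∀ i, per d.s (r i) = 2)
    (hne : ∀ i j, i ≠ j → r j ∉ d.comp (r i)) :
    d.Q (d.comp (r 0) ∪ d.comp (r 1) ∪ d.comp (r 2)) := by
  let f : I12 → α := fun i =>
    if i.2.1 = 0 then (d.s ^ (i.2.2 : ℕ)) (r i.1) else d.x ((d.s ^ (i.2.2 : ℕ)) (r i.1))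
  have hs2 : ∀ i, d.s (d.s (r i)) = r i := fun i => by
    have := pow_per d.s (r i)
    rwa [hL, pow_two, Equiv.Perm.mul_apply] at this
  have hfx : ∀ i, d.x (f i) = f (x12 i) := by
    rintro ⟨c, t, e⟩
    fin_cases t <;> simp [f, x12, d.x_x]
  have hfs : ∀ i, d.s (f i) = f (s12 i) := by
    rintro ⟨c, t, e⟩
    fin_cases t <;> fin_cases e
    · simp [f, s12]
    · simp [f, s12, hs2]
    · change d.s (d.x ((d.s ^ 0) (r c))) = d.x ((d.s ^ 1) (r c))
      have h := d.s_x (d.s (r c))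
      rw [hs2] at h
      simpa using h
    · change d.s (d.x ((d.s ^ 1) (r c))) = d.x ((d.s ^ 0) (r c))
      simpa using d.s_x (r c)
  have hmem : ∀ i : I12, f i ∈ d.comp (r i.1) := by
    rintro ⟨c, t, e⟩
    fin_cases t
    · exact Finset.mem_union_left _ (pow_mem_orb _ _ _)
    · exact Finset.mem_union_right _ (d.x_mem_orb (pow_mem_orb _ _ _))
  have hf : Function.Injective f := by
    rintro ⟨c, t, e⟩ ⟨c', t', e'⟩ h
    have hcc : c = c' := by
      by_contra hcc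
      have h1 := hmem (c, t, e)
      rw [h] at h1
      have h2 := Inv.comp_subset d (d.inv_comp (r c)) h1
      refine hne c c' hcc (h2 ?_)
      rcases Finset.mem_union.1 (hmem (c', t', e')) with g | g
      · exact Finset.mem_union_left _ (mem_orb_comm.1 g)
      · refine Finset.mem_union_right _ ?_
        have := d.x_mem_orb g
        rw [d.x_x] at this
        exact mem_orb_comm.1 this
    subst hcc
    have hee : ∀ a b : Fin 2, (d.s ^ (a : ℕ)) (r c) = (d.s ^ (b : ℕ)) (r c) → a = b := fun a b g =>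
      Fin.ext ((pow_eq_pow_iff (by rw [hL]; exact a.2) (by rw [hL]; exact b.2)).1 g)
    have hsep : ∀ a b : Fin 2, (d.s ^ (a : ℕ)) (r c) ≠ d.x ((d.s ^ (b : ℕ)) (r c)) := fun a b g => hB c (by
      have h1 := d.x_mem_orb (pow_mem_orb d.s (r c) b)
      rw [← g] at h1
      rw [← orb_eq_of_mem (pow_mem_orb d.s (r c) a)]
      exact mem_orb_comm.1 h1)
    fin_cases t <;> fin_cases t'
    · obtain rfl := hee e e' h
      rfl
    · exact absurd h (hsep e e')
    · exact absurd h.symm (hsep e' e)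
    · obtain rfl := hee e e' (d.x.injective h)
      rfl
  set S := d.comp (r 0) ∪ d.comp (r 1) ∪ d.comp (r 2) with hS
  have himage : ∀ p ∈ S, ∃ i, f i = p := by
    intro p hp
    have key : ∀ c, p ∈ d.comp (r c) → ∃ i, f i = p := by
      intro c hc
      rcases Finset.mem_union.1 hc with g | g <;> obtain ⟨k, hk, rfl⟩ := mem_orb.1 g
      · exact ⟨(c, 0, ⟨k, by rw [hL] at hk; exact hk⟩), rfl⟩
      · rw [d.per_x, hL] at hk
        interval_cases k
        · exact ⟨(c, 1, 0), rfl⟩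
        · refine ⟨(c, 1, 1), ?_⟩
          change d.x ((d.s ^ 1) (r c)) = (d.s ^ 1) (d.x (r c))
          have h := d.s_x (d.s (r c))
          rw [hs2] at h
          simpa using h.symm
    rw [hS, Finset.mem_union, Finset.mem_union] at hp
    rcases hp with (h | h) | h <;> exact key _ h
  refine ⟨w12.viaEmbedding ⟨f, hf⟩, fun p hp => ?_, fun p hp => ?_⟩
  · refine Equiv.Perm.viaEmbedding_apply_of_notMem _ _ _ ?_
    rintro ⟨i, rfl⟩
    refine hp ?_
    have := hmem i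
    rw [hS, Finset.mem_union, Finset.mem_union]
    obtain ⟨c, t, e⟩ := i
    fin_cases c
    · exact Or.inl (Or.inl this)
    · exact Or.inl (Or.inr this)
    · exact Or.inr this
  obtain ⟨i, rfl⟩ := himage p hp
  set w := w12.viaEmbedding ⟨f, hf⟩ with hw
  have hwf : ∀ i, w (f i) = f (w12 i) := fun i => Equiv.Perm.viaEmbedding_apply w12 ⟨f, hf⟩ i
  have hwi : ∀ i, w⁻¹ (f i) = f (w12⁻¹ i) := fun i => by
    apply w.injective
    rw [← Equiv.Perm.mul_apply, mul_inv_cancel, Equiv.Perm.one_apply, hwf, ← Equiv.Perm.mul_apply,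
      mul_inv_cancel, Equiv.Perm.one_apply]
  have hc : ∀ i, d.cw w (f i) = f ((w12 * x12 * w12⁻¹ * x12) i) := fun i => by
    simp only [cw, Equiv.Perm.mul_apply, hfx, hwi, hwf]
  have hτ : ∀ i, (d.cw w * d.s) (f i) = f ((w12 * x12 * w12⁻¹ * x12 * s12) i) := fun i => by
    simp only [Equiv.Perm.mul_apply, hfs, hc]
  have hpow : ∀ (g : Equiv.Perm α) (g0 : Equiv.Perm I12), (∀ i, g (f i) = f (g0 i)) →
      ∀ (n : ℕ) i, (g ^ n) (f i) = f ((g0 ^ n) i) := by
    intro g g0 hg n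
    induction n with
    | zero => intro i; rfl
    | succ n ih =>
      intro i
      rw [pow_succ', pow_succ', Equiv.Perm.mul_apply, Equiv.Perm.mul_apply, ih, hg]
  exact ⟨⟨15, by decide, by rw [hpow _ _ hc, (model_twelve i).1]⟩,
    ⟨15, by decide, by rw [hpow _ _ hτ, (model_twelve i).2]⟩⟩

end Pair

end Cfsg.Agent.InvolutionGraph
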