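/-
Two conjugate involutions of a symmetric group of degree at least five have a common neighbour.

* `exists_middle` : a conjugate `z` of `x` with `x * z` and `z * y` of odd order
-/
import Cfsg.Agent.Lib.InvolutionGraph.Cases
import Cfsg.Agent.EqLemmas

set_option autoImplicit false
set_option linter.unusedSectionVars false

namespace Cfsg.Agent.InvolutionGraph

variable {α : Type*} [DecidableEq α] [Fintype α]

theorem per_inv (σ : Equiv.Perm α) (p : α) : per σ⁻¹ p = per σ p := by
  have key : ∀ τ : Equiv.Perm α, per τ⁻¹ p ∣ per τ p := fun τ => by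
    rw [← pow_apply_eq_self_iff, inv_pow, Equiv.Perm.inv_eq_iff_eq]
    exact (pow_per τ p).symm
  exact Nat.dvd_antisymm (key σ) (by simpa using key σ⁻¹)

theorem orb_inv (σ : Equiv.Perm α) (p : α) : orb σ⁻¹ p = orb σ p := by
  ext q
  simp [orb, Equiv.Perm.sameCycle_inv]

theorem card_orb_le (σ : Equiv.Perm α) (p : α) : (orb σ p).card ≤ per σ p := by
  have hsub : orb σ p ⊆ (Finset.range (per σ p)).image fun i => (σ ^ i) p := fun q hq => by
    obtain ⟨i, hi, rfl⟩ := mem_orb.1 hq
    exact Finset.mem_image.2 ⟨i, Finset.mem_range.2 hi, rfl⟩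
  exact (Finset.card_le_card hsub).trans (Finset.card_image_le.trans (Finset.card_range _).le)

namespace Pair

variable (d : Pair α)

/-- The pair in the other order. -/
def flip : Pair α := ⟨d.y, d.x, d.yy, d.xx⟩

theorem flip_s : d.flip.s = d.s⁻¹ := by
  rw [s, s, mul_inv_rev, inv_eq_of_mul_eq_one_right d.xx, inv_eq_of_mul_eq_one_right d.yy]
  rfl

theorem per_flip (p : α) : per d.flip.s p = per d.s p := by rw [d.flip_s, per_inv]

theorem orb_flip (p : α) : orb d.flip.s p = orb d.s p := by rw [d.flip_s, orb_inv]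

theorem inv_flip {S : Finset α} (h : d.Inv S) : d.flip.Inv S := fun p hp => ⟨(h p hp).2, (h p hp).1⟩

/-- Fixed points of the first involution. -/
def fixX (S : Finset α) : Finset α := S.filter fun p => d.x p = p

/-- Fixed points of the second involution. -/
def fixY (S : Finset α) : Finset α := S.filter fun p => d.y p = p

theorem fixX_iff {u : α} (hu : d.x u = u) (i : ℕ) :
    d.x ((d.s ^ i) u) = (d.s ^ i) u ↔ per d.s u ∣ 2 * i := by
  rw [← (d.s ^ i).injective.eq_iff, d.pow_x, hu, ← pow_apply_eq_self_iff, two_mul, pow_add, Equiv.Perm.mul_apply]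
  exact eq_comm

theorem fixY_iff {u : α} (hu : d.x u = u) (i : ℕ) :
    d.y ((d.s ^ i) u) = (d.s ^ i) u ↔ per d.s u ∣ 2 * i + 1 := by
  rw [d.y_eq, ← Equiv.Perm.mul_apply d.s, ← pow_succ', ← (d.s ^ (i + 1)).injective.eq_iff, d.pow_x, hu,
    ← pow_apply_eq_self_iff, show 2 * i + 1 = (i + 1) + i by omega, ← Equiv.Perm.mul_apply (d.s ^ (i + 1)),
    ← pow_add]
  exact eq_comm

theorem card_fix_even {u : α} (hu : d.x u = u) (he : Even (per d.s u)) :
    (d.fixX (orb d.s u)).card = 2 ∧ d.fixY (orb d.s u) = ∅ := by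
  obtain ⟨k, hk⟩ := he
  have hL := per_pos d.s u
  constructor
  · have e : d.fixX (orb d.s u) = {u, (d.s ^ k) u} := by
      ext q
      simp only [fixX, Finset.mem_filter, Finset.mem_insert, Finset.mem_singleton]
      constructor
      · rintro ⟨hq, hfix⟩
        obtain ⟨i, hi, rfl⟩ := mem_orb.1 hq
        obtain ⟨c, hc⟩ := (d.fixX_iff hu i).1 hfix
        have hc2 : c < 2 := by
          by_contra hcc
          have := Nat.mul_le_mul_left (per d.s u) (Nat.not_lt.1 hcc)
          omega
        interval_cases c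
        · left
          rw [show i = 0 by omega]
          rfl
        · right
          rw [show i = k by omega]
      · rintro (rfl | rfl)
        · exact ⟨self_mem_orb _ _, hu⟩
        · exact ⟨pow_mem_orb _ _ _, (d.fixX_iff hu k).2 (by rw [hk, two_mul])⟩
    rw [e, Finset.card_pair]
    exact (pow_ne_pow (i := k) (j := 0) (by omega) hL (by omega)).symm
  · rw [fixY, Finset.filter_eq_empty_iff]
    intro q hq hfix
    obtain ⟨i, hi, rfl⟩ := mem_orb.1 hq
    obtain ⟨c, hc⟩ := (d.fixY_iff hu i).1 hfix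
    rw [hk, show (k + k) * c = 2 * (k * c) by ring] at hc
    omega

theorem card_fix_even_y {u : α} (hu : d.y u = u) (he : Even (per d.s u)) :
    (d.fixY (orb d.s u)).card = 2 ∧ d.fixX (orb d.s u) = ∅ := by
  have h := d.flip.card_fix_even (u := u) hu (by rwa [d.per_flip])
  rw [d.orb_flip] at h
  exact h

theorem exists_opposite {S : Finset α} (hS : d.Inv S) (hbal : (d.fixX S).card = (d.fixY S).card)
    {u : α} (huS : u ∈ S) (hu : d.y u = u) (he : Even (per d.s u)) :
    ∃ v ∈ S, d.x v = v ∧ Even (per d.s v) := by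
  by_contra hcon
  push Not at hcon
  let g : α → α := fun q => (d.s ^ (per d.s q / 2)) q
  have hmaps : ∀ q ∈ d.fixX S, g q ∈ (d.fixY S).erase u := by
    intro q hq
    rw [fixX, Finset.mem_filter] at hq
    obtain ⟨k, hk⟩ := Nat.not_even_iff_odd.1 (hcon q hq.1 hq.2)
    rw [Finset.mem_erase, fixY, Finset.mem_filter]
    refine ⟨fun e => ?_, Inv.pow d hS hq.1 _, (d.fixY_iff hq.2 _).2 ?_⟩
    · have := per_pow_apply d.s q (per d.s q / 2)
      change g q = u at e
      rw [show (d.s ^ (per d.s q / 2)) q = u from e] at this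
      rw [this] at he
      exact hcon q hq.1 hq.2 he
    · rw [show 2 * (per d.s q / 2) + 1 = per d.s q by omega]
  have hinj : Set.InjOn g (d.fixX S : Set α) := by
    intro q hq q' hq' e
    rw [Finset.mem_coe, fixX, Finset.mem_filter] at hq hq'
    have hmem : q' ∈ orb d.s q := by
      rw [← orb_eq_of_mem (pow_mem_orb d.s q (per d.s q / 2))]
      change q' ∈ orb d.s (g q)
      rw [e]
      exact mem_orb_comm.1 (pow_mem_orb _ _ _)
    obtain ⟨i, hi, rfl⟩ := mem_orb.1 hmem
    have hdiv := (d.fixX_iff hq.2 i).1 hq'.2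
    have hodd := Nat.not_even_iff_odd.1 (hcon q hq.1 hq.2)
    have h0 := Nat.eq_zero_of_dvd_of_lt (Nat.Coprime.dvd_of_dvd_mul_left (Nat.coprime_two_right.2 hodd) hdiv) hi
    rw [h0]
    rfl
  have h1 := Finset.card_le_card_of_injOn g hmaps hinj
  have huY : u ∈ d.fixY S := Finset.mem_filter.2 ⟨huS, hu⟩
  have h2 := Finset.card_erase_lt_of_mem huY
  omega

theorem exists_fixed {p : α} (hA : d.x p ∈ orb d.s p) :
    ∃ q ∈ orb d.s p, (d.x q = q) ∨ (Even (per d.s p) ∧ d.y q = q) := by
  obtain ⟨j, -, hj⟩ := mem_orb.1 hA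
  have even_case : ∀ i, (d.s ^ (i + i)) p = d.x p → d.x ((d.s ^ i) p) = (d.s ^ i) p := fun i h => by
    apply (d.s ^ i).injective
    rw [d.pow_x, ← h, pow_add, Equiv.Perm.mul_apply]
  rcases Nat.even_or_odd j with ⟨i, rfl⟩ | ⟨i, rfl⟩
  · exact ⟨_, pow_mem_orb _ _ i, Or.inl (even_case i hj)⟩
  rcases Nat.even_or_odd (per d.s p) with he | ⟨k, hk⟩
  · refine ⟨_, pow_mem_orb _ _ i, Or.inr ⟨he, ?_⟩⟩
    rw [d.y_eq, ← Equiv.Perm.mul_apply d.s, ← pow_succ']
    apply (d.s ^ (i + 1)).injective
    rw [d.pow_x, ← hj, show 2 * i + 1 = i + 1 + i by omega, pow_add, Equiv.Perm.mul_apply]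
  · refine ⟨_, pow_mem_orb _ _ (i + k + 1), Or.inl (even_case _ ?_)⟩
    rw [show i + k + 1 + (i + k + 1) = 2 * i + 1 + per d.s p by omega, pow_add, Equiv.Perm.mul_apply, pow_per, hj]

theorem comp_eq_orb {p : α} (hA : d.x p ∈ orb d.s p) : d.comp p = orb d.s p := by
  rw [comp, orb_eq_of_mem hA, Finset.union_self]

theorem self_mem_comp (p : α) : p ∈ d.comp p := Finset.mem_union_left _ (self_mem_orb _ _)

theorem per_of_mem_comp {p q : α} (h : q ∈ d.comp p) : per d.s q = per d.s p := by
  rcases Finset.mem_union.1 h with h | h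
  · exact per_of_mem h
  · rw [per_of_mem h, d.per_x]

theorem disjoint_comp {S : Finset α} (hS : d.Inv S) {p : α} (hp : p ∉ S) : Disjoint (d.comp p) S := by
  refine Finset.disjoint_left.2 fun q hq hqS => hp ?_
  refine Inv.comp_subset d hS hqS ?_
  rcases Finset.mem_union.1 hq with h | h
  · exact Finset.mem_union_left _ (mem_orb_comm.1 h)
  · refine Finset.mem_union_right _ ?_
    have := d.x_mem_orb h
    rw [d.x_x] at this
    exact mem_orb_comm.1 this

/-- The only bad invariant set: one component with four points. -/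
def Exc (S : Finset α) : Prop := ∃ p, d.x p ∉ orb d.s p ∧ per d.s p = 2 ∧ S = d.comp p

theorem main_two : ∀ (n : ℕ) (S : Finset α), S.card = n → d.Inv S →
    (∀ p ∈ S, d.x p ∈ orb d.s p → Odd (per d.s p)) → d.Q S ∨ d.Exc S := by
  intro n
  induction n using Nat.strong_induction_on with
  | _ n ih =>
    intro S hn hS hA
    by_cases hall : ∀ p ∈ S, Odd (per d.s p)
    · exact Or.inl (d.Q_of_good hall)
    push Not at hall
    obtain ⟨p0, hp0, hp0e⟩ := hall
    rw [Nat.not_odd_iff_even] at hp0e
    have hB : ∀ p ∈ S, Even (per d.s p) → d.x p ∉ orb d.s p := fun p hp he hm =>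
      Nat.not_even_iff_odd.2 (hA p hp hm) he
    have rec' : ∀ T : Finset α, d.Inv T → T ⊆ S → (∃ p, p ∈ T) → d.Q (S \ T) ∨ d.Exc (S \ T) := by
      rintro T hT hTS ⟨p, hp⟩
      refine ih _ ?_ _ rfl (Inv.sdiff d hS hT) fun q hq => hA q (Finset.mem_sdiff.1 hq).1
      rw [← hn]
      refine Finset.card_lt_card (Finset.ssubset_iff_of_subset Finset.sdiff_subset |>.2 ⟨p, hTS hp, ?_⟩)
      exact fun e => (Finset.mem_sdiff.1 e).2 hp
    by_cases hlong : ∃ p ∈ S, Even (per d.s p) ∧ 4 ≤ per d.s p
    · obtain ⟨p, hp, he, h4⟩ := hlong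
      have hBp := hB p hp he
      have hsub := Inv.comp_subset d hS hp
      left
      rw [← Finset.union_sdiff_of_subset hsub]
      rcases rec' _ (d.inv_comp p) hsub ⟨p, d.self_mem_comp p⟩ with hQ | ⟨r, hr1, hr2, hr3⟩
      · exact Q.union d (d.inv_comp p) (Inv.sdiff d hS (d.inv_comp p)) Finset.disjoint_sdiff (d.self_long hBp he h4) hQ
      · rw [hr3]
        refine d.even_even hBp hr1 ?_ he (by rw [hr2]; decide)
        exact (Finset.mem_sdiff.1 (hr3.symm ▸ d.self_mem_comp r : r ∈ S \ d.comp p)).2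
    push Not at hlong
    have htwo : ∀ p ∈ S, Even (per d.s p) → per d.s p = 2 := fun p hp he => by
      have h1 := hlong p hp he
      have h2 := per_pos d.s p
      obtain ⟨k, hk⟩ := he
      omega
    have hBp := hB p0 hp0 hp0e
    have hp02 := htwo p0 hp0 hp0e
    have hsub := Inv.comp_subset d hS hp0
    by_cases hodd : ∃ q ∈ S, Odd (per d.s q)
    · obtain ⟨q, hq, hqo⟩ := hodd
      have hqsub := Inv.comp_subset d hS hq
      have hqp : q ∉ d.comp p0 := fun e => Nat.not_even_iff_odd.2 hqo (by rw [d.per_of_mem_comp e]; exact hp0e)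
      have hT : d.Q (d.comp p0 ∪ d.comp q) := by
        by_cases hAq : d.x q ∈ orb d.s q
        · obtain ⟨v, hv, hfix | ⟨he, -⟩⟩ := d.exists_fixed hAq
          · rw [d.comp_eq_orb hAq, ← orb_eq_of_mem hv]
            exact d.move_merge hBp hfix (by rw [per_of_mem hv]; exact hqo)
          · exact absurd he (Nat.not_even_iff_odd.2 hqo)
        · exact d.even_odd hBp hAq hqp hp0e hqo
      have hinv := Inv.union d (d.inv_comp p0) (d.inv_comp q)
      have hTsub := Finset.union_subset hsub hqsub
      left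
      rw [← Finset.union_sdiff_of_subset hTsub]
      rcases rec' _ hinv hTsub ⟨p0, Finset.mem_union_left _ (d.self_mem_comp p0)⟩ with hQ | ⟨r, hr1, hr2, hr3⟩
      · exact Q.union d hinv (Inv.sdiff d hS hinv) Finset.disjoint_sdiff hT hQ
      · rw [hr3]
        have hr := (Finset.mem_sdiff.1 (hr3.symm ▸ d.self_mem_comp r : r ∈ S \ (d.comp p0 ∪ d.comp q))).2
        rw [Finset.notMem_union] at hr
        rw [Finset.union_right_comm]
        refine Q.union d (Inv.union d (d.inv_comp p0) (d.inv_comp r)) (d.inv_comp q) ?_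
          (d.even_even hBp hr1 hr.1 hp0e (by rw [hr2]; decide)) (d.Q_of_good fun z hz => by
            rw [d.per_of_mem_comp hz]; exact hqo)
        refine (d.disjoint_comp (Inv.union d (d.inv_comp p0) (d.inv_comp r)) ?_).symm
        rw [Finset.notMem_union]
        exact ⟨hqp, fun e => Nat.not_even_iff_odd.2 hqo (by rw [d.per_of_mem_comp e, hr2]; decide)⟩
    push Not at hodd
    by_cases hone : S = d.comp p0
    · exact Or.inr ⟨p0, hBp, hp02, hone⟩
    obtain ⟨q, hq, hqp⟩ : ∃ q ∈ S, q ∉ d.comp p0 := by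
      by_contra hcon
      push Not at hcon
      exact hone (Finset.Subset.antisymm hcon hsub)
    have hqe : Even (per d.s q) := Nat.not_odd_iff_even.1 (hodd q hq)
    have hinv := Inv.union d (d.inv_comp p0) (d.inv_comp q)
    have hTsub := Finset.union_subset hsub (Inv.comp_subset d hS hq)
    left
    rw [← Finset.union_sdiff_of_subset hTsub]
    rcases rec' _ hinv hTsub ⟨p0, Finset.mem_union_left _ (d.self_mem_comp p0)⟩ with hQ | ⟨r, hr1, hr2, hr3⟩
    · exact Q.union d hinv (Inv.sdiff d hS hinv) Finset.disjoint_sdiff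
        (d.even_even hBp (hB q hq hqe) hqp hp0e hqe) hQ
    · rw [hr3]
      have hr := (Finset.mem_sdiff.1 (hr3.symm ▸ d.self_mem_comp r : r ∈ S \ (d.comp p0 ∪ d.comp q))).2
      rw [Finset.notMem_union] at hr
      have hsymm : ∀ a b : α, a ∉ d.comp b → b ∉ d.comp a := fun a b hab e =>
        Finset.disjoint_left.1 (d.disjoint_comp (d.inv_comp b) hab) e (d.self_mem_comp b)
      exact d.three ![p0, q, r]
        (fun i => by fin_cases i; exacts [hBp, hB q hq hqe, hr1])
        (fun i => by fin_cases i; exacts [hp02, htwo q hq hqe, hr2])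
        (fun i j hij => by
          fin_cases i <;> fin_cases j
          all_goals first
            | exact absurd rfl hij
            | exact hqp
            | exact hr.1
            | exact hr.2
            | exact hsymm _ _ hqp
            | exact hsymm _ _ hr.1
            | exact hsymm _ _ hr.2)

theorem main_one : ∀ (n : ℕ) (S : Finset α), S.card = n → d.Inv S →
    (d.fixX S).card = (d.fixY S).card → d.Q S ∨ d.Exc S := by
  intro n
  induction n using Nat.strong_induction_on with
  | _ n ih =>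
    intro S hn hS hbal
    by_cases hA : ∀ p ∈ S, d.x p ∈ orb d.s p → Odd (per d.s p)
    · exact d.main_two n S hn hS hA
    push Not at hA
    obtain ⟨p, hp, hpA, hpe⟩ := hA
    rw [Nat.not_odd_iff_even] at hpe
    obtain ⟨u, huS, hu, hue, u', hu'S, hu', hu'e⟩ : ∃ u ∈ S, d.y u = u ∧ Even (per d.s u) ∧
        ∃ v ∈ S, d.x v = v ∧ Even (per d.s v) := by
      obtain ⟨q, hq, hfix⟩ := d.exists_fixed hpA
      have hqS : q ∈ S := Inv.orb_subset d hS hp hq
      have hqe : Even (per d.s q) := by rw [per_of_mem hq]; exact hpe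
      rcases hfix with hx | ⟨-, hy⟩
      · obtain ⟨v, hv, hvf, hve⟩ := d.flip.exists_opposite (d.inv_flip hS) hbal.symm hqS hx (by rwa [d.per_flip])
        exact ⟨v, hv, hvf, by rwa [d.per_flip] at hve, q, hqS, hx, hqe⟩
      · exact ⟨q, hqS, hy, hqe, d.exists_opposite hS hbal hqS hy hqe⟩
    have hne : u' ∉ orb d.s u := fun e =>
      Finset.eq_empty_iff_forall_notMem.1 (d.card_fix_even_y hu hue).2 u' (Finset.mem_filter.2 ⟨e, hu'⟩)
    have hsu : d.x u ∈ orb d.s u := by
      have h := pow_mem_orb d.s u 1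
      rwa [pow_one, s, Equiv.Perm.mul_apply, hu] at h
    have hinv : d.Inv (orb d.s u ∪ orb d.s u') := by
      rw [← d.comp_eq_orb hsu, ← d.comp_eq_orb (p := u') (by rw [hu']; exact self_mem_orb _ _)]
      exact Inv.union d (d.inv_comp u) (d.inv_comp u')
    set T := orb d.s u ∪ orb d.s u' with hT
    have hsub : T ⊆ S := Finset.union_subset (Inv.orb_subset d hS huS) (Inv.orb_subset d hS hu'S)
    have hdis : Disjoint (orb d.s u) (orb d.s u') := Finset.disjoint_left.2 fun z h1 h2 =>
      hne (by rw [← orb_eq_of_mem h1, orb_eq_of_mem h2]; exact self_mem_orb _ _)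
    have hcT : (d.fixX T).card = (d.fixY T).card := by
      simp only [fixX, fixY, hT, Finset.filter_union]
      have a1 := d.card_fix_even hu' hu'e
      have a2 := d.card_fix_even_y hu hue
      simp only [fixX, fixY] at a1 a2
      rw [a2.2, a1.2, Finset.empty_union, Finset.union_empty, a1.1, a2.1]
    have hcR : (d.fixX (S \ T)).card = (d.fixY (S \ T)).card := by
      have key : ∀ P : α → Prop, ∀ [DecidablePred P],
          (S.filter P).card = (T.filter P).card + ((S \ T).filter P).card := by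
        intro P _
        rw [← Finset.card_union_of_disjoint (Finset.disjoint_filter_filter Finset.disjoint_sdiff),
          ← Finset.filter_union, Finset.union_sdiff_of_subset hsub]
      have k1 := key fun q => d.x q = q
      have k2 := key fun q => d.y q = q
      simp only [fixX, fixY] at hbal hcT ⊢
      omega
    left
    rw [← Finset.union_sdiff_of_subset hsub]
    have hlt : (S \ T).card < n := by
      rw [← hn]
      refine Finset.card_lt_card (Finset.ssubset_iff_of_subset Finset.sdiff_subset |>.2 ⟨u, huS, ?_⟩)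
      exact fun e => (Finset.mem_sdiff.1 e).2 (Finset.mem_union_left _ (self_mem_orb _ _))
    rcases ih _ hlt _ rfl (Inv.sdiff d hS hinv) hcR with hQ | ⟨r, hr1, hr2, hr3⟩
    · exact Q.union d hinv (Inv.sdiff d hS hinv) Finset.disjoint_sdiff (d.move_split hu hu' hue hu'e hne) hQ
    · rw [hr3]
      have hr := (Finset.mem_sdiff.1 (hr3.symm ▸ d.self_mem_comp r : r ∈ S \ T)).2
      rw [hT, Finset.notMem_union] at hr
      exact d.combined hu hu' hue hu'e hne hr1 hr2 hr.1 hr.2

end Pair

theorem odd_orderOf_of_good {f : Equiv.Perm α} (h : ∀ p, Good f p) : Odd (orderOf f) := by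
  choose m hm hp using h
  have h1 : f ^ ∏ p, m p = 1 := Equiv.ext fun p => by
    rw [Equiv.Perm.one_apply, pow_apply_eq_self_iff]
    exact (pow_apply_eq_self_iff.1 (hp p)).trans (Finset.dvd_prod_of_mem m (Finset.mem_univ p))
  exact (Finset.prod_induction m Odd (fun a b ha hb => ha.mul hb) odd_one fun p _ => hm p).of_dvd_nat
    (orderOf_dvd_of_pow_eq_one h1)

theorem exists_middle (h5 : 5 ≤ Fintype.card α) {x y : Equiv.Perm α} (hxx : x * x = 1) (hc : IsConj x y) :
    ∃ z, IsConj x z ∧ Odd (orderOf (x * z)) ∧ Odd (orderOf (z * y)) := by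
  obtain ⟨g, hg⟩ := isConj_iff.1 hc
  have hyy : y * y = 1 := by
    rw [← hg, show g * x * g⁻¹ * (g * x * g⁻¹) = g * (x * x) * g⁻¹ by group, hxx]
    group
  let d : Pair α := ⟨x, y, hxx, hyy⟩
  have hbal : (d.fixX Finset.univ).card = (d.fixY Finset.univ).card := by
    refine Finset.card_bij (fun p _ => g p) (fun p hp => ?_) (fun p _ q _ e => g.injective e)
      (fun q hq => ⟨g⁻¹ q, ?_, by simp⟩)
    · simp only [Pair.fixX, Pair.fixY, Finset.mem_filter, Finset.mem_univ, true_and] at hp ⊢
      show y (g p) = g p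
      change x p = p at hp
      rw [← hg]
      simp [hp]
    · simp only [Pair.fixX, Pair.fixY, Finset.mem_filter, Finset.mem_univ, true_and] at hq ⊢
      show x (g⁻¹ q) = g⁻¹ q
      change y q = q at hq
      rw [← hg] at hq
      simp only [Equiv.Perm.mul_apply] at hq
      exact g.injective (hq.trans (by simp))
  rcases d.main_one _ Finset.univ rfl (fun p _ => ⟨Finset.mem_univ _, Finset.mem_univ _⟩) hbal with
    ⟨w, -, hw⟩ | ⟨p, -, h2, h3⟩
  · have hz : w * x * w⁻¹ * (w * x * w⁻¹) = 1 := by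
      rw [show w * x * w⁻¹ * (w * x * w⁻¹) = w * (x * x) * w⁻¹ by group, hxx]
      group
    refine ⟨w * x * w⁻¹, isConj_iff.2 ⟨w, rfl⟩, ?_, ?_⟩
    · have e : x * (w * x * w⁻¹) = (d.cw w)⁻¹ := by
        rw [Pair.cw, mul_inv_rev (w * x * w⁻¹) x, inv_eq_of_mul_eq_one_right hxx, inv_eq_of_mul_eq_one_right hz]
      rw [e, orderOf_inv]
      exact odd_orderOf_of_good fun p => (hw p (Finset.mem_univ p)).1
    · have e : w * x * w⁻¹ * y = d.cw w * d.s := by
        change _ = w * x * w⁻¹ * x * (x * y)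
        rw [mul_assoc _ x (x * y), ← mul_assoc x x, hxx, one_mul]
      rw [e]
      exact odd_orderOf_of_good fun p => (hw p (Finset.mem_univ p)).2
  · exfalso
    have h4 : (Finset.univ : Finset α).card ≤ per d.s p + per d.s (d.x p) := by
      rw [h3]
      exact (Finset.card_union_le _ _).trans (Nat.add_le_add (card_orb_le _ _) (card_orb_le _ _))
    rw [d.per_x, h2, Finset.card_univ] at h4
    omega

end Cfsg.Agent.InvolutionGraph
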